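import Groth.Agent.Lib.RDerLES.Horseshoe
import Groth.Agent.Lib.RFPlus.Adapted
import Groth.Agent.Lib.SiteCoh.Basic
import Groth.Agent.Lib.SiteCoh.Free
import Groth.Agent.Lib.SiteCoh.InjModule

/-!
# A class closed under cokernels on which a functor is exact consists of acyclic objects
-/

set_option autoImplicit false
set_option backward.isDefEq.respectTransparency false
set_option backward.isDefEq.respectTransparency.types false

universe v v' u u'

open CategoryTheory CategoryTheory.Limits Opposite

noncomputable section

namespace Groth.Agent.ExtSupp8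

variable {C : Type u} [Category.{v} C] [Abelian C] [HasInjectiveResolutions C] [EnoughInjectives C]
  {D : Type u'} [Category.{v'} D] [Abelian D] (F : C ⥤ D) [F.Additive] [PreservesFiniteLimits F]

/-- Members of a class closed under cokernels on which `F` is exact are `F`-acyclic. -/
theorem isAcyclicObj_of_class (P : C → Prop) (hinj : ∀ I, Injective I → P I)
    (hP : ∀ S : ShortComplex C, S.ShortExact → P S.X₁ → P S.X₂ → P S.X₃ ∧ Epi (F.map S.g))
    (X : C) (hX : P X) : RFPlus.IsAcyclicObj F X := by
  obtain ⟨L⟩ := RDerLES.nonempty_derivedLES F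
  suffices h : ∀ (n : ℕ) (X : C), P X → IsZero ((F.rightDerived (n + 1)).obj X) by
    intro i hi
    obtain ⟨n, rfl⟩ := Nat.exists_eq_succ_of_ne_zero (by omega : i ≠ 0)
    exact h n X hX
  intro n
  induction n with
  | zero =>
    intro X hX
    let i := Injective.ι X
    have hS : (ShortComplex.mk i (cokernel.π i) (cokernel.condition i)).ShortExact :=
      ShortComplex.ShortExact.mk' (ShortComplex.exact_of_g_is_cokernel _ (cokernelIsCokernel i))
        inferInstance inferInstance
    haveI := (hP _ hS hX (hinj _ inferInstance)).2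
    haveI : Epi ((F.rightDerived 0).map (cokernel.π i)) :=
      ((MorphismProperty.epimorphisms _).arrow_mk_iso_iff (Arrow.isoMk (F.rightDerivedZeroIsoSelf.app _)
        (F.rightDerivedZeroIsoSelf.app _) (F.rightDerivedZeroIsoSelf.hom.naturality _).symm)).2
        (MorphismProperty.epimorphisms.infer_property (F.map (cokernel.π i)))
    have hδ : L.δ _ hS 0 1 rfl = 0 := by
      rw [← cancel_epi ((F.rightDerived 0).map (cokernel.π i)), comp_zero]
      exact L.comp_δ _ hS 0 1 rfl
    exact (L.exact₁ _ hS 0 1 rfl).isZero_of_both_zeros hδ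
      ((F.isZero_rightDerived_obj_injective_succ 0 (Injective.under X)).eq_of_tgt _ _)
  | succ n ih =>
    intro X hX
    let i := Injective.ι X
    have hS : (ShortComplex.mk i (cokernel.π i) (cokernel.condition i)).ShortExact :=
      ShortComplex.ShortExact.mk' (ShortComplex.exact_of_g_is_cokernel _ (cokernelIsCokernel i))
        inferInstance inferInstance
    have hQ := ih _ (hP _ hS hX (hinj _ inferInstance)).1
    exact (L.exact₁ _ hS (n + 1) (n + 2) rfl).isZero_of_both_zeros
      (hQ.eq_of_src _ _) ((F.isZero_rightDerived_obj_injective_succ (n + 1) (Injective.under X)).eq_of_tgt _ _)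

end Groth.Agent.ExtSupp8

namespace Groth.Agent.ExtSupp8

open Groth.Agent.SiteCoh

variable {C : Type u} [SmallCategory C] {J : GrothendieckTopology C}

/-- Cokernels of totally acyclic sheaves in totally acyclic ones are totally acyclic. -/
theorem isTotallyAcyclic_X₃ {S : ShortComplex (Sheaf J AddCommGrpCat.{u})} (hS : S.ShortExact)
    (h₁ : CohCx.IsTotallyAcyclic S.X₁) (h₂ : CohCx.IsTotallyAcyclic S.X₂) : CohCx.IsTotallyAcyclic S.X₃ :=
  fun K p => ext_shift₃ _ hS (p + 1) (h₂ K p) (h₁ K (p + 1))

end Groth.Agent.ExtSupp8
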