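import Groth.Agent.Lib.ExtSupp8.Cohom
import Groth.Agent.Lib.ExtSupp8.AcyclicClass

/-!
# Totally acyclic modules are acyclic for sections with supports
-/

set_option autoImplicit false
set_option backward.isDefEq.respectTransparency false
set_option backward.isDefEq.respectTransparency.types false

universe u

open CategoryTheory CategoryTheory.Limits Opposite
open Groth.Agent.SiteCoh

noncomputable section

namespace Groth.Agent.ExtSupp8

variable {C : Type u} [SmallCategory C] {J : GrothendieckTopology C} (O : Sheaf J CommRingCat.{u}) (U : C)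
  [ModSite.HasPushOver O U]

variable {O U} in
/-- A section vanishing on everything over `U` is a section with supports. -/
theorem exists_sectOn_preimage {B : ModSite.Mod O} {V : C} (x : B.val.obj (op V))
    (h : ∀ (W : C) (g : W ⟶ V), (W ⟶ U) → B.val.map g.op x = 0) :
    ∃ y : ((ModSite.sectOn O U).obj B).val.obj (op V),
      ((ModSite.sectOnι O U).app B).val.app (op V) y = x := by
  let s : yoneda.obj V ⟶ (undP J).obj (ModSite.toAb B) := yonedaEquiv.symm x
  let φ : (frM (ModSite.ringSh O)).obj (yoneda.obj V) ⟶ B :=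
    (frMHom (ModSite.ringSh O) (yoneda.obj V) B).symm s
  have hφ : frMHom (ModSite.ringSh O) (yoneda.obj V) B φ = s := Equiv.apply_symm_apply _ s
  let P := (PresheafOfModules.free (ModSite.ringSh O).obj).obj (yoneda.obj V)
  let u := (KFlat.Site.adj O).unit.app P
  have hu : ∀ (A : Cᵒᵖ) (_ : A.unop ⟶ U) (z : P.obj A),
      φ.val.app A (u.app A z) = 0 := by
    intro A a z
    let f : P ⟶ B.val := PresheafOfModules.sheafificationHomEquiv (𝟙 (ModSite.ringSh O).obj) φ
    have hf : f.app A = 0 := by
      refine ModuleCat.free_hom_ext fun g => ?_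
      exact (congrArg (fun t => t.app A g) hφ).trans (h A.unop g a)
    exact congrArg (fun t : P.obj A ⟶ B.val.obj A => t z) hf
  have h0 : (ModSite.restr O U).map φ = 0 := by
    refine SheafOfModules.hom_ext (PresheafOfModules.hom_ext fun A => ModuleCat.hom_ext (LinearMap.ext fun t => ?_))
    let W : C := A.unop.left
    change φ.val.app (op W) (t : ((frM (ModSite.ringSh O)).obj (yoneda.obj V)).val.obj (op W)) = 0
    have hW := (J.W_iff_isLocallyBijective _).1 (KFlat.Site.W_unit O P)
    haveI := hW.2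
    refine sect_eq_zero_of_locally O B _ _
      (Presheaf.imageSieve_mem J ((PresheafOfModules.toPresheaf _).map u) t) fun W' g hg => ?_
    obtain ⟨z, hz⟩ := hg
    refine ((PresheafOfModules.naturality_apply φ.val g.op t).symm.trans ?_)
    refine (congrArg (φ.val.app (op W')) hz.symm).trans ?_
    exact hu (op W') (g ≫ A.unop.hom) z
  refine ⟨(frMHom (ModSite.ringSh O) (yoneda.obj V) _ (sectLift φ h0)).app (op V) (𝟙 V), ?_⟩
  have hn : (frMHom (ModSite.ringSh O) (yoneda.obj V) B (sectLift φ h0 ≫ (ModSite.sectOnι O U).app B)).app (op V) (𝟙 V) = x := by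
    rw [sectLift_ι, hφ]
    exact (yonedaEquiv (F := (undP J).obj (ModSite.toAb B)) (X := V)).apply_symm_apply x
  exact hn

omit [ModSite.HasPushOver O U] in
/-- The arrows starting over `U`. -/
def sieveU (V : C) : Subfunctor (yoneda.obj V) where
  obj A := {_g | Nonempty (A.unop ⟶ U)}
  map f _ h := h.map (f.unop ≫ ·)

/-- Sections with supports are exact on totally acyclic modules. -/
theorem epi_sectOn_map {S : ShortComplex (ModSite.Mod O)} (hS : S.ShortExact)
    (h₁ : CohCx.IsTotallyAcyclic (ModSite.toAb S.X₁)) : Epi ((ModSite.sectOn O U).map S.g) := by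
  haveI : PreservesFiniteColimits (SheafOfModules.toSheaf.{u} (ModSite.ringSh O)) :=
    haveI : PreservesColimitsOfSize.{u, u} (SheafOfModules.toSheaf.{u} (ModSite.ringSh O)) := ⟨inferInstance⟩
    PreservesColimitsOfSize.preservesFiniteColimits _
  let T := SheafOfModules.toSheaf.{u} (ModSite.ringSh O)
  have hS' : (S.map T).ShortExact := hS.map_of_exact _
  haveI := hS'.mono_f
  refine T.epi_of_epi_map (epi_of_surjective_sections _ fun V q => ?_)
  change ((ModSite.sectOn O U).obj S.X₃).val.obj (op V) at q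
  let ι₃ := (ModSite.sectOnι O U).app S.X₃
  obtain ⟨a, ha⟩ := surjective_sections V hS' (subsingleton_HU_of_totallyAcyclic h₁ V 0) (ι₃.val.app (op V) q)
  change S.X₂.val.obj (op V) at a
  have hq : ∀ (W : C) (g : W ⟶ V), (W ⟶ U) → S.X₃.val.map g.op (ι₃.val.app (op V) q) = 0 := fun W g w => by
    refine (PresheafOfModules.naturality_apply ι₃.val g.op q).symm.trans ?_
    exact (congrArg (ι₃.val.app (op W)) ((ExtSupp.isNullOn_iff O U _).1 (isNullOn_sectOn O U S.X₃) w _)).trans
      (map_zero _)
  have hex : ∀ A : Cᵒᵖ, Function.Injective ((T.map S.f).hom.app A) ∧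
      ∀ x, (T.map S.g).hom.app A x = 0 → ∃ m, (T.map S.f).hom.app A m = x := fun A => by
    let E := sheafToPresheaf J AddCommGrpCat.{u} ⋙ (evaluation Cᵒᵖ AddCommGrpCat.{u}).obj A
    haveI : Mono (S.map T).f := hS'.mono_f
    have h := hS'.exact.map_of_mono_of_preservesKernel E inferInstance inferInstance
    haveI h2 : Mono ((T.map S.f).hom.app A) := inferInstanceAs (Mono (E.map (S.map T).f))
    exact ⟨(AddCommGrpCat.mono_iff_injective _).1 h2, (ShortComplex.ab_exact_iff _).1 h⟩
  have hm : ∀ (A : Cᵒᵖ) (g : (sieveU U V).obj A), ∃ m : S.X₁.val.obj A,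
      S.f.val.app A m = S.X₂.val.map g.1.op a := fun A g => by
    obtain ⟨w⟩ := g.2
    refine (hex A).2 _ ?_
    refine ((PresheafOfModules.naturality_apply S.g.val g.1.op a).trans ?_)
    exact (congrArg (S.X₃.val.map g.1.op) ha).trans (hq _ g.1 w)
  let b : (sieveU U V).toFunctor ⟶ (undP J).obj (ModSite.toAb S.X₁) :=
    { app := fun A => ↾fun g => (hm A g).choose
      naturality := fun A A' k => by
        ext g
        apply (hex A').1
        refine (hm A' _).choose_spec.trans ?_
        refine Eq.trans ?_ (PresheafOfModules.naturality_apply S.f.val k (hm A g).choose).symm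
        refine Eq.trans ?_ (congrArg (S.X₂.val.map k) (hm A g).choose_spec).symm
        exact S.X₂.val.map_comp_apply g.1.op k a }
  haveI : Mono (sieveU U V).ι := inferInstance
  obtain ⟨z, hz⟩ := surjective_restrict_of_totallyAcyclic h₁ (sieveU U V).ι (((frAdj J).homEquiv _ _).symm b)
  let c := (frAdj J).homEquiv _ _ z
  have hc : (sieveU U V).ι ≫ c = b := by
    rw [← Adjunction.homEquiv_naturality_left, hz, Equiv.apply_symm_apply]
  let m₀ : S.X₁.val.obj (op V) := c.app (op V) (𝟙 V)
  have hcW : ∀ (W : C) (g : W ⟶ V) (w : W ⟶ U), S.f.val.app (op W) (S.X₁.val.map g.op m₀) = S.X₂.val.map g.op a := by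
    intro W g w
    have e1 : S.X₁.val.map g.op m₀ = b.app (op W) ⟨g, ⟨w⟩⟩ := by
      refine (NatTrans.naturality_apply c g.op (𝟙 V)).symm.trans ?_
      refine (congrArg (c.app (op W)) (Category.comp_id g : g ≫ 𝟙 V = g)).trans ?_
      exact congrArg (fun t => t.app (op W) ⟨g, ⟨w⟩⟩) hc
    exact (congrArg (S.f.val.app (op W)) e1).trans (hm (op W) ⟨g, ⟨w⟩⟩).choose_spec
  let a' : S.X₂.val.obj (op V) := a - S.f.val.app (op V) m₀
  obtain ⟨y, hy⟩ := exists_sectOn_preimage (U := U) a' (fun W g w => by
    refine (map_sub (S.X₂.val.map g.op).hom _ _).trans (sub_eq_zero.2 ?_)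
    exact ((PresheafOfModules.naturality_apply S.f.val g.op m₀).symm.trans (hcW W g w)).symm)
  refine ⟨y, ?_⟩
  haveI := mono_sectOnι O U S.X₃
  have hinj : Function.Injective ((T.map ι₃).hom.app (op V)) := by
    haveI : Mono (T.map ι₃) := inferInstance
    haveI : Mono ((sheafToPresheaf J AddCommGrpCat.{u} ⋙ (evaluation Cᵒᵖ AddCommGrpCat.{u}).obj (op V)).map (T.map ι₃)) :=
      inferInstance
    exact (AddCommGrpCat.mono_iff_injective _).1 this
  apply hinj
  refine (congrArg (fun φ : (ModSite.sectOn O U).obj S.X₂ ⟶ S.X₃ => φ.val.app (op V) y)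
    ((ModSite.sectOnι O U).naturality S.g)).trans ?_
  change S.g.val.app (op V) (((ModSite.sectOnι O U).app S.X₂).val.app (op V) y) = ι₃.val.app (op V) q
  rw [hy]
  refine (map_sub (S.g.val.app (op V)).hom _ _).trans ?_
  refine (congrArg₂ (fun p r : S.X₃.val.obj (op V) => p - r) ha ?_).trans (sub_zero _)
  exact congrArg (fun φ : S.X₁ ⟶ S.X₃ => φ.val.app (op V) m₀) S.zero

/-- Totally acyclic modules are acyclic for sections with supports. -/
theorem isAcyclicObj_sectOn [HasInjectiveResolutions (ModSite.Mod O)] (M : ModSite.Mod O)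
    (hM : CohCx.IsTotallyAcyclic (ModSite.toAb M)) : RFPlus.IsAcyclicObj (ModSite.sectOn O U) M := by
  haveI : PreservesLimitsOfSize.{0, 0} (ModSite.sectOn O U) := (quotSectAdj O U).rightAdjoint_preservesLimits
  haveI : PreservesFiniteLimits (ModSite.sectOn O U) := PreservesLimitsOfSize.preservesFiniteLimits _
  haveI : PreservesFiniteColimits (SheafOfModules.toSheaf.{u} (ModSite.ringSh O)) :=
    haveI : PreservesColimitsOfSize.{u, u} (SheafOfModules.toSheaf.{u} (ModSite.ringSh O)) := ⟨inferInstance⟩
    PreservesColimitsOfSize.preservesFiniteColimits _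
  exact isAcyclicObj_of_class (ModSite.sectOn O U) (fun M => CohCx.IsTotallyAcyclic (ModSite.toAb M))
    (fun I _ => isTotallyAcyclic_injective (ModSite.ringSh O) I)
    (fun S hS h₁ h₂ => ⟨isTotallyAcyclic_X₃ (hS.map_of_exact (SheafOfModules.toSheaf.{u} (ModSite.ringSh O))) h₁ h₂,
      epi_sectOn_map O U hS h₁⟩) M hM

end Groth.Agent.ExtSupp8
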