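import Groth.Agent.Lib.ExtSupp8.Quot
import Groth.Agent.Lib.ModFlat16.RestrTensor
import Groth.Agent.Lib.ExtDerived.Natural
import Mathlib.CategoryTheory.Adjunction.Mates
import Mathlib.CategoryTheory.Adjunction.Additive

/-!
# Null modules, tensor products and internal homs; global sections with supports of an internal hom
-/

set_option autoImplicit false
set_option backward.isDefEq.respectTransparency false
set_option backward.isDefEq.respectTransparency.types false

universe u

open CategoryTheory CategoryTheory.Limits Opposite Groth.Agent.ModFlat16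
open Groth.Agent.KFlat.Site (TS flipObjIso)

noncomputable section

namespace Groth.Agent.ExtSupp8

variable {C : Type u} [SmallCategory C] {J : GrothendieckTopology C} (O : Sheaf J CommRingCat.{u}) (U : C)

instance preservesFiniteColimits_tensorObj (G : ModSite.Mod O) : PreservesFiniteColimits ((TS O).obj G) :=
  haveI : PreservesColimitsOfSize.{u, u} ((TS O).obj G) := ⟨inferInstance⟩
  PreservesColimitsOfSize.preservesFiniteColimits _

instance additive_tensorObj (G : ModSite.Mod O) : ((TS O).obj G).Additive :=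
  haveI := preservesBinaryBiproducts_of_preservesBinaryCoproducts ((TS O).obj G)
  Functor.additive_of_preservesBinaryBiproducts _

instance additive_tensorFlip (M : ModSite.Mod O) : ((TS O).flip.obj M).Additive :=
  Functor.additive_of_iso (flipObjIso O M)

variable {O U} in
/-- Tensor products with null modules are null. -/
theorem isNullOn_tensor (G : ModSite.Mod O) {X : ModSite.Mod O} (hX : ModSite.IsNullOn O U X) :
    ModSite.IsNullOn O U (((TS O).obj G).obj X) :=
  (((TS (O.over U)).obj ((ModSite.restr O U).obj G)).map_isZero hX).of_iso ((restrTensorIso O U G).app X)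

variable {O U} in
theorem extZero_to_null_eq_zero {A : ModSite.Mod (O.over U)} {X : ModSite.Mod O} (hX : ModSite.IsNullOn O U X)
    (f : (ModSite.extZero O U).obj A ⟶ X) : f = 0 :=
  ((ModSite.extZeroAdj O U).homEquiv _ _).injective (hX.eq_of_tgt _ _)

variable {O U} in
theorem tensor_extZero_to_null_eq_zero (G : ModSite.Mod O) {A : ModSite.Mod (O.over U)} {X : ModSite.Mod O}
    (hX : ModSite.IsNullOn O U X) (f : ((TS O).obj G).obj ((ModSite.extZero O U).obj A) ⟶ X) : f = 0 := by
  let e := (projLeft O U G).app A ≪≫ ((flipObjIso O G).app ((ModSite.extZero O U).obj A)).symm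
  rw [← cancel_epi e.hom, comp_zero]
  exact extZero_to_null_eq_zero (A := ((TS (O.over U)).flip.obj ((ModSite.restr O U).obj G)).obj A) hX _

variable {O U} in
/-- The internal hom into a null module is null. -/
theorem isNullOn_sheafHom (M : ModSite.Mod O) [ModSite.HasSheafHom M] {X : ModSite.Mod O}
    (hX : ModSite.IsNullOn O U X) : ModSite.IsNullOn O U ((ModSite.sheafHom M).obj X) := by
  let H := (ModSite.sheafHom M).obj X
  have h : (ModSite.extZeroAdj O U).counit.app H = 0 := by
    apply ((ModSite.sheafHomAdj M).homEquiv _ _).symm.injective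
    let A := (ModSite.restr O U).obj H
    have key : ∀ f : ((TS O).obj ((ModSite.extZero O U).obj A)).obj M ⟶ X, f = 0 := fun f => by
      rw [← cancel_epi ((projRight O U A).hom.app M), comp_zero]
      exact extZero_to_null_eq_zero (A := ((TS (O.over U)).obj A).obj ((ModSite.restr O U).obj M)) hX _
    exact (key _).trans (key _).symm
  rw [ModSite.IsNullOn, IsZero.iff_id_eq_zero, ← (ModSite.extZeroAdj O U).right_triangle_components, h,
    Functor.map_zero, comp_zero]

section Sect

variable [ModSite.HasPushOver O U] (M : ModSite.Mod O) [ModSite.HasSheafHom M]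

variable {O U M} in
theorem restr_map_adjunct {G N : ModSite.Mod O} (h : G ⟶ (ModSite.sheafHom M).obj N) (hG : ModSite.IsNullOn O U G) :
    (ModSite.restr O U).map (((ModSite.sheafHomAdj M).homEquiv G N).symm h) = 0 := by
  have hT : ModSite.IsNullOn O U (((TS O).obj G).obj M) :=
    (isNullOn_tensor M hG).of_iso ((ModSite.restr O U).mapIso ((flipObjIso O M).app G).symm)
  exact hT.eq_of_src _ _

/-- `Γ_Z ℋom(M, N) ⟶ ℋom(M, Γ_Z N)`. -/
def sectHomTo (N : ModSite.Mod O) :
    (ModSite.sectOn O U).obj ((ModSite.sheafHom M).obj N) ⟶ (ModSite.sheafHom M).obj ((ModSite.sectOn O U).obj N) :=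
  (ModSite.sheafHomAdj M).homEquiv _ _
    (sectLift (((ModSite.sheafHomAdj M).homEquiv _ _).symm ((ModSite.sectOnι O U).app _))
      (restr_map_adjunct _ (isNullOn_sectOn O U _)))

theorem sectHomTo_ι (N : ModSite.Mod O) :
    sectHomTo O U M N ≫ (ModSite.sheafHom M).map ((ModSite.sectOnι O U).app N) =
      (ModSite.sectOnι O U).app ((ModSite.sheafHom M).obj N) := by
  rw [sectHomTo, ← Adjunction.homEquiv_naturality_right, sectLift_ι]
  exact ((ModSite.sheafHomAdj M).homEquiv _ _).apply_symm_apply _

/-- `ℋom(M, Γ_Z N) ⟶ Γ_Z ℋom(M, N)`. -/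
def sectHomInv (N : ModSite.Mod O) :
    (ModSite.sheafHom M).obj ((ModSite.sectOn O U).obj N) ⟶ (ModSite.sectOn O U).obj ((ModSite.sheafHom M).obj N) :=
  sectLift ((ModSite.sheafHom M).map ((ModSite.sectOnι O U).app N))
    (restr_map_eq_zero_of_null_src (isNullOn_sheafHom M (isNullOn_sectOn O U N)) _)

theorem mono_sheafHom_sectOnι (N : ModSite.Mod O) : Mono ((ModSite.sheafHom M).map ((ModSite.sectOnι O U).app N)) :=
  haveI := mono_sectOnι O U N
  haveI : PreservesLimitsOfSize.{0, 0} (ModSite.sheafHom M) := (ModSite.sheafHomAdj M).rightAdjoint_preservesLimits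
  inferInstance

/-- `Γ_Z ℋom(M, -) ≅ ℋom(M, Γ_Z -)`. -/
def sectHomIso : ModSite.sheafHom M ⋙ ModSite.sectOn O U ≅ ModSite.sectOn O U ⋙ ModSite.sheafHom M :=
  NatIso.ofComponents
    (fun N =>
      { hom := sectHomTo O U M N
        inv := sectHomInv O U M N
        hom_inv_id := by
          haveI := mono_sectOnι O U ((ModSite.sheafHom M).obj N)
          rw [← cancel_mono ((ModSite.sectOnι O U).app ((ModSite.sheafHom M).obj N)), Category.assoc, sectHomInv,
            sectLift_ι, sectHomTo_ι]
          exact (Category.id_comp _).symm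
        inv_hom_id := by
          haveI := mono_sheafHom_sectOnι O U M N
          rw [← cancel_mono ((ModSite.sheafHom M).map ((ModSite.sectOnι O U).app N)), Category.assoc, sectHomTo_ι,
            sectHomInv, sectLift_ι]
          exact (Category.id_comp _).symm })
    (fun {N N'} g => by
      haveI := mono_sheafHom_sectOnι O U M N'
      rw [← cancel_mono ((ModSite.sheafHom M).map ((ModSite.sectOnι O U).app N'))]
      dsimp only [Functor.comp_map]
      rw [Category.assoc, sectHomTo_ι, Category.assoc, ← Functor.map_comp, (ModSite.sectOnι O U).naturality g,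
        Functor.map_comp, ← Category.assoc, sectHomTo_ι]
      exact (ModSite.sectOnι O U).naturality ((ModSite.sheafHom M).map g))

/-- Maps out of the structure sheaf into an internal hom. -/
def unitHomEquiv (N : ModSite.Mod O) :
    (ModSite.unit O ⟶ (ModSite.sheafHom M).obj N) ≃+ (M ⟶ N) :=
  (((ModSite.sheafHomAdj M).homAddEquiv (ModSite.unit O) N).symm).trans
    { ((unitTensorIso O).app M).homCongr (Iso.refl N) with
      map_add' := fun a b => by simp }

theorem unitHomEquiv_naturality {N N' : ModSite.Mod O} (g : N ⟶ N')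
    (f : ModSite.unit O ⟶ (ModSite.sheafHom M).obj N) :
    unitHomEquiv O M N' (f ≫ (ModSite.sheafHom M).map g) = unitHomEquiv O M N f ≫ g := by
  change ((unitTensorIso O).app M).inv ≫ ((ModSite.sheafHomAdj M).homEquiv _ _).symm _ ≫ 𝟙 _ =
    (((unitTensorIso O).app M).inv ≫ ((ModSite.sheafHomAdj M).homEquiv _ _).symm f ≫ 𝟙 _) ≫ g
  rw [Adjunction.homEquiv_naturality_right_symm]
  simp

/-- `Hom(O, ℋom(M, -)) ≅ Hom(M, -)`. -/
def unitHomIso : ModSite.sheafHom M ⋙ preadditiveCoyoneda.obj (op (ModSite.unit O)) ≅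
    preadditiveCoyoneda.obj (op M) :=
  NatIso.ofComponents (fun N => (unitHomEquiv O M N).toAddCommGrpIso) fun {_ _} g => by
    ext f
    exact unitHomEquiv_naturality O M g f

instance additive_quotOn : (ModSite.quotOn O U).Additive := (quotSectAdj O U).left_adjoint_additive

omit M in
/-- `Hom(M, Γ_Z -) ≅ Hom(M/M_U, -)`. -/
def coyonedaSectIso (M : ModSite.Mod O) : ModSite.sectOn O U ⋙ preadditiveCoyoneda.obj (op M) ≅
    preadditiveCoyoneda.obj (op ((ModSite.quotOn O U).obj M)) :=
  NatIso.ofComponents (fun N => ((quotSectAdj O U).homAddEquiv M N).symm.toAddCommGrpIso) fun {_ _} g => by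
    ext f
    exact (quotSectAdj O U).homEquiv_naturality_right_symm f g

/-- Global sections with supports of `ℋom(M, -)` are maps out of `M/M_U`. -/
def gammaZHomIso : ExtSupp.gammaZHom U M ≅ preadditiveCoyoneda.obj (op ((ModSite.quotOn O U).obj M)) :=
  (Functor.associator _ _ _).symm ≪≫ Functor.isoWhiskerRight (sectHomIso O U M) _ ≪≫ Functor.associator _ _ _ ≪≫
    Functor.isoWhiskerLeft (ModSite.sectOn O U) (unitHomIso O M) ≪≫ coyonedaSectIso O U M

end Sect

section QuotTensor

variable [ModSite.HasPushOver O U] (M : ModSite.Mod O)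

/-- `(G ⊗ M)/(G ⊗ M)_U ⟶ G ⊗ (M/M_U)`. -/
def quotTensorTo (G : ModSite.Mod O) :
    (ModSite.quotOn O U).obj (((TS O).obj G).obj M) ⟶ ((TS O).obj G).obj ((ModSite.quotOn O U).obj M) :=
  quotDesc (((TS O).obj G).map ((ModSite.quotOnπ O U).app M))
    (restr_map_eq_zero_of_null_tgt (isNullOn_tensor G (ExtSupp.isNullOn_quotOn O U M)) _)

theorem isIso_quotTensorTo (G : ModSite.Mod O) : IsIso (quotTensorTo O U M G) := by
  haveI : Epi (ExtSupp.openSeq U M).g := (ExtSupp.openSeq_exact U M).2
  have hex : ((ExtSupp.openSeq U M).map ((TS O).obj G)).Exact :=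
    KFlat.exact_map_of_epi _ (ExtSupp.openSeq_exact U M).1
  haveI hg : Epi ((ExtSupp.openSeq U M).map ((TS O).obj G)).g :=
    inferInstanceAs (Epi (((TS O).obj G).map (ExtSupp.openSeq U M).g))
  let π' := (ModSite.quotOnπ O U).app (((TS O).obj G).obj M)
  let inv := hex.desc π' (tensor_extZero_to_null_eq_zero G (ExtSupp.isNullOn_quotOn O U _) _)
  have hinv : ((TS O).obj G).map ((ModSite.quotOnπ O U).app M) ≫ inv = π' := hex.g_desc _ _
  refine ⟨inv, ?_, ?_⟩
  · haveI := epi_quotOnπ O U (((TS O).obj G).obj M)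
    rw [← cancel_epi π', ← Category.assoc, quotTensorTo, quotOnπ_quotDesc, hinv]
    exact (Category.comp_id _).symm
  · haveI : Epi (((TS O).obj G).map ((ModSite.quotOnπ O U).app M)) := hg
    rw [← cancel_epi (((TS O).obj G).map ((ModSite.quotOnπ O U).app M)), ← Category.assoc, hinv, quotTensorTo]
    exact (quotOnπ_quotDesc _ _).trans (Category.comp_id _).symm

/-- Tensoring commutes with the quotient by the part on `U`. -/
def quotTensorIso : (TS O).flip.obj M ⋙ ModSite.quotOn O U ≅ (TS O).flip.obj ((ModSite.quotOn O U).obj M) :=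
  NatIso.ofComponents (fun G => @asIso _ _ _ _ (quotTensorTo O U M G) (isIso_quotTensorTo O U M G))
    fun {G G'} g => by
      haveI := epi_quotOnπ O U (((TS O).flip.obj M).obj G)
      rw [← cancel_epi ((ModSite.quotOnπ O U).app (((TS O).flip.obj M).obj G))]
      dsimp only [Functor.comp_map, asIso_hom]
      rw [← Category.assoc, ← Category.assoc, ← (ModSite.quotOnπ O U).naturality]
      dsimp only [Functor.id_map]
      rw [Category.assoc]
      refine (congrArg (((TS O).flip.obj M).map g ≫ ·) (quotOnπ_quotDesc _ _)).trans ?_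
      refine Eq.trans ?_ (congrArg (· ≫ ((TS O).flip.obj ((ModSite.quotOn O U).obj M)).map g) (quotOnπ_quotDesc _ _)).symm
      exact (((TS O).map g).naturality _).symm

/-- `ℋom(M/M_U, -) ≅ Γ_Z ℋom(M, -)`. -/
def sectHomQuotIso [ModSite.HasSheafHom M] [ModSite.HasSheafHom ((ModSite.quotOn O U).obj M)] :
    ModSite.sheafHom M ⋙ ModSite.sectOn O U ≅ ModSite.sheafHom ((ModSite.quotOn O U).obj M) :=
  sectHomIso O U M ≪≫
    (conjugateIsoEquiv ((ModSite.sheafHomAdj M).comp (quotSectAdj O U))
      (ModSite.sheafHomAdj ((ModSite.quotOn O U).obj M)) (quotTensorIso O U M).symm)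

end QuotTensor

end Groth.Agent.ExtSupp8
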