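import Groth.Prelude.Def_ExtSupp
import Groth.Agent.Lib.ModFlat16.Generators
import Groth.Agent.Lib.ModFlat16.ExtZero
import Groth.Agent.Lib.CohFound.ModulesInst

/-!
# The quotient by the part on `U` is exact and is left adjoint to sections with supports
-/

set_option autoImplicit false
set_option backward.isDefEq.respectTransparency false
set_option backward.isDefEq.respectTransparency.types false

universe u

open CategoryTheory CategoryTheory.Limits Opposite Groth.Agent.ModFlat16
open Groth.Agent.KFlat.Site (adj W_unit)

noncomputable section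

namespace Groth.Agent.ExtSupp8

variable {C : Type u} [SmallCategory C] {J : GrothendieckTopology C} (O : Sheaf J CommRingCat.{u}) (U : C)

local instance enoughInjectives_mod : EnoughInjectives (ModSite.Mod O) := inferInstance

theorem epi_quotOnπ (M : ModSite.Mod O) : Epi ((ModSite.quotOnπ O U).app M) :=
  inferInstanceAs (Epi (cokernel.π _))

theorem counit_quotOnπ (M : ModSite.Mod O) :
    (ModSite.extZeroAdj O U).counit.app M ≫ (ModSite.quotOnπ O U).app M = 0 := cokernel.condition _

variable {O U} in
/-- A map killed on `U` factors through the quotient. -/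
def quotDesc {M N : ModSite.Mod O} (φ : M ⟶ N) (h : (ModSite.restr O U).map φ = 0) :
    (ModSite.quotOn O U).obj M ⟶ N :=
  cokernel.desc _ φ ((ExtSupp.mem_homZ_iff U φ).1 h)

variable {O U} in
theorem quotOnπ_quotDesc {M N : ModSite.Mod O} (φ : M ⟶ N) (h : (ModSite.restr O U).map φ = 0) :
    (ModSite.quotOnπ O U).app M ≫ quotDesc φ h = φ := cokernel.π_desc _ _ _

variable {O U} in
theorem restr_map_eq_zero_of_null_src {M N : ModSite.Mod O} (hM : ModSite.IsNullOn O U M) (φ : M ⟶ N) :
    (ModSite.restr O U).map φ = 0 := hM.eq_of_src _ _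

variable {O U} in
theorem restr_map_eq_zero_of_null_tgt {M N : ModSite.Mod O} (hN : ModSite.IsNullOn O U N) (φ : M ⟶ N) :
    (ModSite.restr O U).map φ = 0 := hN.eq_of_tgt _ _

section Sect

variable [ModSite.HasPushOver O U]

variable {O U} in
/-- A map killed on `U` lands in the sections with supports. -/
def sectLift {M N : ModSite.Mod O} (φ : M ⟶ N) (h : (ModSite.restr O U).map φ = 0) :
    M ⟶ (ModSite.sectOn O U).obj N :=
  kernel.lift _ φ (by
    apply ((ModSite.restrPushOverAdj O U).homEquiv _ _).symm.injective
    rw [Adjunction.homEquiv_counit, Adjunction.homEquiv_counit, Functor.map_comp, Category.assoc,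
      h, zero_comp, Functor.map_zero, zero_comp])

variable {O U} in
theorem sectLift_ι {M N : ModSite.Mod O} (φ : M ⟶ N) (h : (ModSite.restr O U).map φ = 0) :
    sectLift φ h ≫ (ModSite.sectOnι O U).app N = φ := kernel.lift_ι _ _ _

theorem mono_sectOnι (N : ModSite.Mod O) : Mono ((ModSite.sectOnι O U).app N) :=
  inferInstanceAs (Mono (kernel.ι _))

theorem restr_map_sectOnι (N : ModSite.Mod O) : (ModSite.restr O U).map ((ModSite.sectOnι O U).app N) = 0 := by
  have h : (ModSite.sectOnι O U).app N ≫ (ModSite.restrPushOverAdj O U).unit.app N = 0 := kernel.condition _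
  have := congrArg (fun z => (ModSite.restr O U).map z ≫ (ModSite.restrPushOverAdj O U).counit.app _) h
  simp only [Functor.map_zero, zero_comp, Functor.map_comp, Category.assoc] at this
  erw [(ModSite.restrPushOverAdj O U).left_triangle_components N, Category.comp_id] at this
  exact this

/-- Sections with supports are null on `U`. -/
theorem isNullOn_sectOn (N : ModSite.Mod O) : ModSite.IsNullOn O U ((ModSite.sectOn O U).obj N) := by
  haveI := mono_sectOnι O U N
  haveI : (ModSite.restr O U).PreservesMonomorphisms :=
    haveI : PreservesLimitsOfSize.{0, 0} (ModSite.restr O U) :=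
      (ModSite.extZeroAdj O U).rightAdjoint_preservesLimits
    inferInstance
  rw [ModSite.IsNullOn, IsZero.iff_id_eq_zero]
  rw [← cancel_mono ((ModSite.restr O U).map ((ModSite.sectOnι O U).app N)), restr_map_sectOnι, comp_zero, comp_zero]

/-- The quotient by the part on `U` is left adjoint to sections with supports. -/
def quotSectAdj : ModSite.quotOn O U ⊣ ModSite.sectOn O U :=
  Adjunction.mkOfHomEquiv
    { homEquiv := fun M N =>
        { toFun := fun f => sectLift ((ModSite.quotOnπ O U).app M ≫ f) (by
            rw [Functor.map_comp, restr_map_eq_zero_of_null_tgt (ExtSupp.isNullOn_quotOn O U M), zero_comp])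
          invFun := fun g => quotDesc (g ≫ (ModSite.sectOnι O U).app N) (by
            rw [Functor.map_comp, restr_map_sectOnι, comp_zero])
          left_inv := fun f => by
            haveI := epi_quotOnπ O U M
            rw [← cancel_epi ((ModSite.quotOnπ O U).app M), quotOnπ_quotDesc, sectLift_ι]
          right_inv := fun g => by
            haveI := mono_sectOnι O U N
            rw [← cancel_mono ((ModSite.sectOnι O U).app N), sectLift_ι, quotOnπ_quotDesc] }
      homEquiv_naturality_left_symm := fun {M' M N} g f => by
        haveI := epi_quotOnπ O U M'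
        rw [← cancel_epi ((ModSite.quotOnπ O U).app M')]
        dsimp only [Equiv.coe_fn_symm_mk]
        rw [quotOnπ_quotDesc, ← Category.assoc ((ModSite.quotOnπ O U).app M'), ← (ModSite.quotOnπ O U).naturality g]
        dsimp only [Functor.id_map, Functor.id_obj]
        rw [Category.assoc, Category.assoc]
        exact congrArg (g ≫ ·) (quotOnπ_quotDesc _ _).symm
      homEquiv_naturality_right := fun {M N N'} f g => by
        haveI := mono_sectOnι O U N'
        rw [← cancel_mono ((ModSite.sectOnι O U).app N')]
        dsimp only [Equiv.coe_fn_mk]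
        rw [sectLift_ι, Category.assoc _ ((ModSite.sectOn O U).map g), (ModSite.sectOnι O U).naturality g,
          ← Category.assoc, ← Category.assoc, sectLift_ι]
        simp }

end Sect

/-- The sieve of arrows on which a section vanishes or which start on an object over `U`. -/
def genSieve {B : ModSite.Mod O} {V : C} (x : B.val.obj (op V)) : Sieve V where
  arrows W g := B.val.map g.op x = 0 ∨ Nonempty (W ⟶ U)
  downward_closed := by
    intro W W' g hg k
    rcases hg with h | h
    · left
      rw [op_comp, B.val.map_comp_apply, h, map_zero]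
    · exact Or.inr (h.map (k ≫ ·))

variable {O U} in
theorem genSieve_app_le {B B' : ModSite.Mod O} (f : B ⟶ B') {V : C} (x : B.val.obj (op V)) :
    genSieve O U x ≤ genSieve O U (f.val.app (op V) x) := by
  rintro W g (h | h)
  · left
    rw [← PresheafOfModules.naturality_apply, h, map_zero]
  · exact Or.inr h

variable {O U} in
theorem exists_local_preimage {A B : ModSite.Mod O} (f : A ⟶ B) [Epi f] {V : C} (x : B.val.obj (op V)) :
    ∃ R ∈ J V, ∀ ⦃W : C⦄ (g : W ⟶ V), R.arrows g → ∃ a : A.val.obj (op W), f.val.app (op W) a = B.val.map g.op x := by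
  haveI : PreservesFiniteColimits (SheafOfModules.toSheaf (ModSite.ringSh O)) :=
    haveI : PreservesColimitsOfSize.{u, u} (SheafOfModules.toSheaf (ModSite.ringSh O)) := ⟨inferInstance⟩
    PreservesColimitsOfSize.preservesFiniteColimits _
  haveI : Epi ((SheafOfModules.toSheaf (ModSite.ringSh O)).map f) := inferInstance
  haveI h : Sheaf.IsLocallySurjective ((SheafOfModules.toSheaf (ModSite.ringSh O)).map f) :=
    (Sheaf.isLocallySurjective_iff_epi' _ _).2 inferInstance
  refine ⟨_, Presheaf.imageSieve_mem J ((SheafOfModules.toSheaf (ModSite.ringSh O)).map f).hom x, fun W g hg => ?_⟩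
  obtain ⟨a, ha⟩ := hg
  exact ⟨a, ha⟩

theorem sect_eq_zero_of_locally (B : ModSite.Mod O) {V : C} (x : B.val.obj (op V)) (R : Sieve V) (hR : R ∈ J V)
    (h : ∀ ⦃W : C⦄ (g : W ⟶ V), R.arrows g → B.val.map g.op x = 0) : x = 0 := by
  refine (Presheaf.IsSheaf.isSeparated (ModSite.toAb B).property) V _ hR _ _ fun W g hg => ?_
  change B.val.map g.op x = B.val.map g.op 0
  rw [h g hg, map_zero]

/-- Sections of an extension by zero vanish locally away from `U`. -/
theorem genSieve_extFun_mem (A : ModSite.Mod (O.over U)) {V : C} (x : ((extFun O U).obj A).val.obj (op V)) :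
    genSieve O U x ∈ J V := by
  have hW := (J.W_iff_isLocallyBijective _).1 (W_unit O ((preE O U).obj ((ModSite.toPre (O.over U)).obj A)))
  haveI := hW.2
  refine J.superset_covering ?_ (Presheaf.imageSieve_mem J
    ((PresheafOfModules.toPresheaf _).map ((adj O).unit.app ((preE O U).obj ((ModSite.toPre (O.over U)).obj A)))) x)
  rintro W g ⟨t, ht⟩
  by_cases hWU : Nonempty (W ⟶ U)
  · exact Or.inr hWU
  · left
    have h0 : t = 0 := ext0_induction (R := O.obj) (U := U) _ (V := op W) (p := fun z => z = 0) t rfl
      (fun φ _ => (hWU ⟨φ⟩).elim) (fun a b ha hb => by rw [ha, hb, add_zero])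
    rw [h0, map_zero] at ht
    exact ht.symm

theorem genSieve_extZero_mem (A : ModSite.Mod (O.over U)) {V : C} (x : ((ModSite.extZero O U).obj A).val.obj (op V)) :
    genSieve O U x ∈ J V := by
  refine J.superset_covering (genSieve_app_le ((extIso O U).inv.app A) (((extIso O U).hom.app A).val.app (op V) x))
    (genSieve_extFun_mem O U A _) |> fun h => ?_
  have e : ((extIso O U).inv.app A).val.app (op V) (((extIso O U).hom.app A).val.app (op V) x) = x :=
    congrArg (fun φ : (ModSite.extZero O U).obj A ⟶ _ => φ.val.app (op V) x) ((extIso O U).hom_inv_id_app A)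
  rwa [e] at h

/-- A section killed in the quotient vanishes locally away from `U`. -/
theorem genSieve_mem_of_quotOnπ_eq_zero (B : ModSite.Mod O) {V : C} (x : B.val.obj (op V))
    (hx : ((ModSite.quotOnπ O U).app B).val.app (op V) x = 0) : genSieve O U x ∈ J V := by
  let π := (ModSite.quotOnπ O U).app B
  let h := (freeOnHom O V B).symm x
  have hh : h ≫ π = 0 := by
    apply (freeOnHom O V _).injective
    refine ((freeOnHom_comp O h π).trans ((congrArg _ ((freeOnHom O V B).apply_symm_apply x)).trans hx)).trans ?_
    have e0 := freeOnHom_comp O (0 : ModSite.freeOn O V ⟶ B) π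
    rw [zero_comp] at e0
    have e1 := freeOnHom_comp O (𝟙 (ModSite.freeOn O V)) (0 : ModSite.freeOn O V ⟶ (ModSite.quotOn O U).obj B)
    rw [comp_zero] at e1
    exact e1.symm
  let e := kernel.lift π ((ModSite.extZeroAdj O U).counit.app B) (counit_quotOnπ O U B)
  haveI : Epi e := (ShortComplex.exact_iff_epi_kernel_lift (ExtSupp.openSeq U B)).1 (ExtSupp.openSeq_exact U B).1
  let y := freeOnHom O V _ (kernel.lift π h hh)
  have hy : (kernel.ι π).val.app (op V) y = x := by
    rw [← freeOnHom_comp, kernel.lift_ι]
    exact (freeOnHom O V B).apply_symm_apply x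
  obtain ⟨R, hR, hloc⟩ := exists_local_preimage e y
  refine J.transitive hR _ fun W g hg => ?_
  obtain ⟨a, ha⟩ := hloc g hg
  refine J.superset_covering ?_ (genSieve_extZero_mem O U _ a)
  intro W' k hk
  rcases hk with hk | hk
  · left
    rw [op_comp, B.val.map_comp_apply, ← hy]
    have e1 : B.val.map g.op ((kernel.ι π).val.app (op V) y) = (kernel.ι π).val.app (op W) (e.val.app (op W) a) :=
      (PresheafOfModules.naturality_apply (kernel.ι π).val g.op y).symm.trans (congrArg _ ha.symm)
    refine (congrArg (B.val.map k.op) e1).trans ((PresheafOfModules.naturality_apply (kernel.ι π).val k.op _).symm.trans ?_)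
    refine (congrArg ((kernel.ι π).val.app (op W')) ((PresheafOfModules.naturality_apply e.val k.op a).symm.trans
      ((congrArg (e.val.app (op W')) hk).trans (map_zero _)))).trans (map_zero _)
  · exact Or.inr hk

variable [ModSite.HasPushOver O U]

/-- The quotient by the part on `U` preserves monomorphisms. -/
theorem mono_quotOn_map {A B : ModSite.Mod O} (f : A ⟶ B) [Mono f] : Mono ((ModSite.quotOn O U).map f) := by
  have inj : ∀ {V : C} (a : A.val.obj (op V)), f.val.app (op V) a = 0 → a = 0 := fun {V} a ha => by
    apply (freeOnHom O V A).symm.injective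
    rw [← cancel_mono f]
    apply (freeOnHom O V B).injective
    rw [freeOnHom_comp, freeOnHom_comp, Equiv.apply_symm_apply, Equiv.apply_symm_apply, ha, map_zero]
  haveI := epi_quotOnπ O U A
  suffices h : ∀ {V : C} (y : ((ModSite.quotOn O U).obj A).val.obj (op V)),
      ((ModSite.quotOn O U).map f).val.app (op V) y = 0 → y = 0 by
    refine (SheafOfModules.forget (ModSite.ringSh O)).mono_of_mono_map
      (PresheafOfModules.mono_of_injective fun {V} => ?_)
    exact (injective_iff_map_eq_zero (((ModSite.quotOn O U).map f).val.app V).hom).2 fun y hy => h y hy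
  intro V y hy
  obtain ⟨R, hR, hloc⟩ := exists_local_preimage ((ModSite.quotOnπ O U).app A) y
  refine sect_eq_zero_of_locally O _ y R hR fun W g hg => ?_
  obtain ⟨a, ha⟩ := hloc g hg
  rw [← ha]
  have hfa : ((ModSite.quotOnπ O U).app B).val.app (op W) (f.val.app (op W) a) = 0 := by
    have e := congrArg (fun φ : A ⟶ (ModSite.quotOn O U).obj B => φ.val.app (op W) a)
      ((ModSite.quotOnπ O U).naturality f)
    refine e.trans ?_
    change ((ModSite.quotOn O U).map f).val.app (op W) (((ModSite.quotOnπ O U).app A).val.app (op W) a) = 0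
    rw [ha, PresheafOfModules.naturality_apply, hy, map_zero]
  refine sect_eq_zero_of_locally O _ _ _ (genSieve_mem_of_quotOnπ_eq_zero O U B _ hfa) fun W' k hk => ?_
  rcases hk with hk | hψ
  · have hk' : f.val.app (op W') (A.val.map k.op a) = 0 :=
      (PresheafOfModules.naturality_apply f.val k.op a).trans hk
    exact (PresheafOfModules.naturality_apply ((ModSite.quotOnπ O U).app A).val k.op a).symm.trans
      ((congrArg _ (inj _ hk')).trans (map_zero _))
  · exact hψ.elim fun ψ => (ExtSupp.isNullOn_iff O U _).1 (ExtSupp.isNullOn_quotOn O U A) ψ _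

instance preservesMonomorphisms_quotOn : (ModSite.quotOn O U).PreservesMonomorphisms :=
  ⟨fun f _ => mono_quotOn_map O U f⟩

/-- Sections with supports of injective modules are injective. -/
theorem injective_sectOn (I : ModSite.Mod O) [Injective I] :
    Injective ((ModSite.sectOn O U).obj I) :=
  Injective.injective_of_adjoint (quotSectAdj O U) I

end Groth.Agent.ExtSupp8
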