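import Groth.Agent.Lib.ExtSupp8.Restr
import Groth.Agent.Lib.SiteCoh.ModuleExt
import Groth.Agent.Lib.SiteCoh.Acyclic
import Groth.Prelude.Def_ToposFin2
import Mathlib.CategoryTheory.Subfunctor.Image

/-!
# Ext out of `O/O_U` is cohomology with supports of the underlying abelian sheaf
-/

set_option autoImplicit false
set_option backward.isDefEq.respectTransparency false
set_option backward.isDefEq.respectTransparency.types false

universe u

open CategoryTheory CategoryTheory.Limits Opposite Abelian
open Groth.Agent.SiteCoh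

noncomputable section

namespace Groth.Agent.ExtSupp8

variable {C : Type u} [SmallCategory C] {J : GrothendieckTopology C}

theorem mono_frP_map {P Q : Cᵒᵖ ⥤ Type u} (ι : P ⟶ Q) [Mono ι] : Mono ((frP J).map ι) := by
  haveI : Mono (((Functor.whiskeringRight Cᵒᵖ (Type u) AddCommGrpCat.{u}).obj AddCommGrpCat.free.{u}).map ι) := by
    haveI : ∀ T, Mono ((Functor.whiskerRight ι AddCommGrpCat.free.{u}).app T) := fun T => by
      haveI : Mono (ι.app T) := inferInstance
      exact inferInstanceAs (Mono (AddCommGrpCat.free.{u}.map (ι.app T)))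
    exact NatTrans.mono_of_mono_app _
  exact (presheafToSheaf J AddCommGrpCat.{u}).map_mono _

/-- No higher `Ext` from a cokernel of free sheaves to a totally acyclic sheaf. -/
theorem subsingleton_ext_cokernel_mono {F : Sheaf J AddCommGrpCat.{u}} (hF : CohCx.IsTotallyAcyclic F)
    {P Q : Cᵒᵖ ⥤ Type u} (ι : P ⟶ Q) [Mono ι] (k : ℕ) :
    Subsingleton (Ext (cokernel ((frP J).map ι)) F (k + 1)) := by
  haveI := mono_frP_map (J := J) ι
  have hS : (ShortComplex.mk ((frP J).map ι) (cokernel.π ((frP J).map ι)) (cokernel.condition _)).ShortExact :=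
    ShortComplex.ShortExact.mk' (ShortComplex.exact_of_g_is_cokernel _ (cokernelIsCokernel _))
      inferInstance inferInstance
  refine ⟨fun a b => ?_⟩
  suffices h : ∀ x : Ext (cokernel ((frP J).map ι)) F (k + 1), x = 0 by rw [h a, h b]
  intro x
  obtain ⟨y, rfl⟩ := Ext.contravariant_sequence_exact₃ hS F x
    ((subsingleton_ext_frP hF Q k).elim _ _) (n₀ := k) (by omega)
  rcases k with _ | k
  · obtain ⟨a, rfl⟩ := (Ext.mk₀_bijective _ _).2 y
    obtain ⟨z, rfl⟩ := surjective_restrict_of_totallyAcyclic hF ι a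
    rw [← Ext.mk₀_comp_mk₀]
    exact hS.extClass_comp_assoc _
  · rw [(subsingleton_ext_frP hF P k).elim y 0, Ext.comp_zero]

/-- No higher `Ext` from a cokernel of free sheaves to a totally acyclic sheaf. -/
theorem subsingleton_ext_cokernel {F : Sheaf J AddCommGrpCat.{u}} (hF : CohCx.IsTotallyAcyclic F)
    {P Q : Cᵒᵖ ⥤ Type u} (η : P ⟶ Q) (k : ℕ) :
    Subsingleton (Ext (cokernel ((frP J).map η)) F (k + 1)) := by
  let R := Subfunctor.range η
  haveI : Epi (Subfunctor.toRange η) := inferInstance
  haveI : Epi ((frP J).map (Subfunctor.toRange η)) :=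
    haveI := (frAdj J).isLeftAdjoint
    inferInstance
  have e : (frP J).map (Subfunctor.toRange η) ≫ (frP J).map R.ι = (frP J).map η := by
    rw [← Functor.map_comp, Subfunctor.toRange_ι]
  exact subsingleton_ext_of_iso
    (cokernelIsoOfEq e.symm ≪≫ cokernelEpiComp _ _).symm _ (subsingleton_ext_cokernel_mono hF R.ι k)

/-- Cohomology with supports of totally acyclic sheaves vanishes. -/
theorem subsingleton_ext_quotZ {F : Sheaf J AddCommGrpCat.{u}} (hF : CohCx.IsTotallyAcyclic F)
    (K : ToposFin.Sh J) (k : ℕ) : Subsingleton (Ext (ToposFin.quotZ K) F (k + 1)) :=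
  subsingleton_ext_cokernel hF (terminal.from K).hom k

variable (O : Sheaf J CommRingCat.{u}) (U : C)

/-- The point of the terminal sheaf. -/
abbrev pt : Cᵒᵖ ⥤ Type u := (⊤_ (ToposFin.Sh J)).obj

/-- The presheaf `pt` is terminal. -/
def ptTerminal : IsTerminal (pt (J := J)) := IsTerminal.isTerminalObj (sheafToPresheaf J (Type u)) _ terminalIsTerminal

/-- A point. -/
def ptPt (V : Cᵒᵖ) : (pt (J := J)).obj V := (ptTerminal.from ((Functor.const Cᵒᵖ).obj PUnit.{u + 1})).app V PUnit.unit

theorem subsingleton_pt (V : Cᵒᵖ) : Subsingleton ((pt (J := J)).obj V) :=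
  ⟨fun a b => (Types.isTerminalEquivUnique _).toFun
    (IsTerminal.isTerminalObj ((evaluation Cᵒᵖ (Type u)).obj V) _ ptTerminal) |>.instSubsingleton.elim a b⟩

/-- The value at one of a map out of the structure sheaf. -/
def evalOne {Y : ModSite.Mod O} (f : ModSite.unit O ⟶ Y) : pt (J := J) ⟶ (undP J).obj (ModSite.toAb Y) where
  app V := ↾fun _ => (f.val.app V (1 : O.obj.obj V) : Y.val.obj V)
  naturality V W r := by
    ext t
    change f.val.app W (1 : O.obj.obj W) = Y.val.map r (f.val.app V (1 : O.obj.obj V))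
    refine Eq.trans ?_ (PresheafOfModules.naturality_apply f.val r (1 : O.obj.obj V))
    exact congrArg (f.val.app W) (map_one (O.obj.map r).hom).symm

theorem bijective_evalOne (Y : ModSite.Mod O) : Function.Bijective (evalOne O (Y := Y)) := by
  constructor
  · intro f g h
    apply Y.unitHomEquiv.injective
    apply PresheafOfModules.sections_ext
    intro V
    exact congrFun (congrArg (fun z => z.app V) h) (ptPt V)
  · intro s
    let σ : Y.sections := PresheafOfModules.sectionsMk (fun V => s.app V (ptPt V)) fun V W r => by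
      refine ((NatTrans.naturality_apply s r (ptPt V)).symm.trans ?_)
      exact congrArg (s.app W) ((subsingleton_pt W).elim _ _)
    refine ⟨Y.unitHomEquiv.symm σ, ?_⟩
    ext V t
    refine Eq.trans ?_ (congrArg (s.app V) ((subsingleton_pt V).elim (ptPt V) t))
    exact congrArg (fun z : Y.sections => z.val V) (Y.unitHomEquiv.apply_symm_apply σ)

/-- The free abelian sheaf on a point maps to the structure sheaf. -/
def θ : (frP J).obj (pt (J := J)) ⟶ ModSite.toAb (ModSite.unit O) :=
  ((frAdj J).homEquiv _ _).symm (evalOne O (𝟙 (ModSite.unit O)))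

theorem homEquiv_θ {Y : ModSite.Mod O} (f : ModSite.unit O ⟶ Y) :
    (frAdj J).homEquiv _ _ (θ O ≫ (SheafOfModules.toSheaf (ModSite.ringSh O)).map f) = evalOne O f := by
  rw [Adjunction.homEquiv_naturality_right, θ, Equiv.apply_symm_apply]
  rfl

theorem bijective_θ (Y : ModSite.Mod O) : Function.Bijective
    fun f : ModSite.unit O ⟶ Y => θ O ≫ (SheafOfModules.toSheaf (ModSite.ringSh O)).map f := by
  have : ((frAdj J).homEquiv _ _) ∘
      (fun f : ModSite.unit O ⟶ Y => θ O ≫ (SheafOfModules.toSheaf (ModSite.ringSh O)).map f) = evalOne O :=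
    funext (homEquiv_θ O)
  rw [← ((frAdj J).homEquiv _ _).comp_bijective, this]
  exact bijective_evalOne O Y

/-- The map from the sheaf of `U` to the point. -/
abbrev toPt : (ToposFin.eps J U).obj ⟶ pt (J := J) := (terminal.from (ToposFin.eps J U)).hom

theorem homEquiv_zero {P : Cᵒᵖ ⥤ Type u} (Y : Sheaf J AddCommGrpCat.{u}) (V : Cᵒᵖ) (t : P.obj V) :
    ((frAdj J).homEquiv P Y 0).app V t = (0 : Y.obj.obj V) := by
  let z : Y.obj.obj V := ((frAdj J).homEquiv P Y 0).app V t
  have h := frAdj_add P Y 0 0 V t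
  rw [add_zero] at h
  have h' : z = z + z := h
  exact (left_eq_add.1 h' : z = 0)

theorem restr_map_eq_zero_iff {Y : ModSite.Mod O} (f : ModSite.unit O ⟶ Y) :
    (ModSite.restr O U).map f = 0 ↔
      (frP J).map (toPt U) ≫ θ O ≫ (SheafOfModules.toSheaf (ModSite.ringSh O)).map f = 0 := by
  have key : (frP J).map (toPt U) ≫ θ O ≫ (SheafOfModules.toSheaf (ModSite.ringSh O)).map f = 0 ↔
      ∀ (V : C) (_ : V ⟶ U), f.val.app (op V) (1 : O.obj.obj (op V)) = 0 := by
    rw [← ((frAdj J).homEquiv _ _).injective.eq_iff, Adjunction.homEquiv_naturality_left, homEquiv_θ]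
    constructor
    · intro h V g
      have h1 := congrFun (congrArg (fun z => z.app (op V)) h) ((CategoryTheory.toSheafify J (yoneda.obj U : Cᵒᵖ ⥤ Type u)).app (op V) g)
      rw [homEquiv_zero] at h1
      exact h1
    · intro h
      refine sheafify_hom_ext J _ _ (isSheaf_undP _) ?_
      ext V g
      refine (h V.unop g).trans ?_
      exact (homEquiv_zero (J := J) (ModSite.toAb Y) V g).symm
  rw [key]
  constructor
  · intro h V g
    exact congrArg (fun φ : (ModSite.restr O U).obj (ModSite.unit O) ⟶ (ModSite.restr O U).obj Y =>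
      φ.val.app (op (Over.mk g)) (1 : O.obj.obj (op V))) h
  · intro h
    refine SheafOfModules.hom_ext (PresheafOfModules.hom_ext fun A => ModuleCat.hom_ext (LinearMap.ext fun x => ?_))
    let r : (ModSite.ringSh O).obj.obj (op A.unop.left) := x
    have e : (x : (ModSite.unit O).val.obj (op A.unop.left)) =
        r • (show ((ModSite.unit O).val.obj (op A.unop.left) : Type u) from (1 : O.obj.obj (op A.unop.left))) := (mul_one r).symm
    change f.val.app (op A.unop.left) (x : (ModSite.unit O).val.obj (op A.unop.left)) = 0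
    rw [e]
    exact ((f.val.app (op A.unop.left)).hom.map_smul _ _).trans
      ((congrArg _ (h _ A.unop.hom)).trans (smul_zero _))

variable [ModSite.HasPushOver O U]

/-- `ℤ/ℤ_U ⟶ O/O_U`. -/
def ηQ : ToposFin.quotZ (ToposFin.eps J U) ⟶ ModSite.toAb ((ModSite.quotOn O U).obj (ModSite.unit O)) :=
  cokernel.desc _ (θ O ≫ (SheafOfModules.toSheaf (ModSite.ringSh O)).map ((ModSite.quotOnπ O U).app (ModSite.unit O)))
    ((restr_map_eq_zero_iff O U _).1 (restr_map_eq_zero_of_null_tgt (ExtSupp.isNullOn_quotOn O U _) _))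

theorem π_ηQ : cokernel.π ((frP J).map (toPt U)) ≫ ηQ O U =
    θ O ≫ (SheafOfModules.toSheaf (ModSite.ringSh O)).map ((ModSite.quotOnπ O U).app (ModSite.unit O)) :=
  cokernel.π_desc _ _ _

theorem bijective_ηQ (Y : ModSite.Mod O) : Function.Bijective
    fun g : (ModSite.quotOn O U).obj (ModSite.unit O) ⟶ Y =>
      ηQ O U ≫ (SheafOfModules.toSheaf (ModSite.ringSh O)).map g := by
  constructor
  · intro g g' h
    haveI := epi_quotOnπ O U (ModSite.unit O)
    rw [← cancel_epi ((ModSite.quotOnπ O U).app (ModSite.unit O))]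
    apply (bijective_θ O Y).1
    dsimp only
    rw [Functor.map_comp, Functor.map_comp, ← Category.assoc, ← Category.assoc, ← π_ηQ, Category.assoc, Category.assoc]
    exact congrArg (cokernel.π _ ≫ ·) h
  · intro t
    obtain ⟨f, hf⟩ := (bijective_θ O Y).2 (cokernel.π ((frP J).map (toPt U)) ≫ t)
    have h0 : (ModSite.restr O U).map f = 0 := by
      rw [restr_map_eq_zero_iff O U f]
      exact (congrArg ((frP J).map (toPt U) ≫ ·) hf).trans (by rw [cokernel.condition_assoc, zero_comp])
    refine ⟨quotDesc f h0, ?_⟩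
    rw [← cancel_epi (cokernel.π ((frP J).map (toPt U)))]
    dsimp only
    rw [← Category.assoc, π_ηQ, Category.assoc, ← Functor.map_comp, quotOnπ_quotDesc]
    exact hf

variable [HasExt.{u} (ModSite.Mod O)]

theorem subsingleton_ext_unit {F : ModSite.Mod O} (hF : CohCx.IsTotallyAcyclic (ModSite.toAb F)) (k : ℕ) :
    Subsingleton (Ext (ModSite.unit O) F (k + 1)) :=
  haveI := subsingleton_H_of_totallyAcyclic hF k
  (exists_moduleExtEquiv (ModSite.ringSh O) F (k + 1)).some.toEquiv.subsingleton

/-- `Ext(O/O_U, F)` is cohomology with supports. -/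
theorem exists_quotExtEquiv (F : ModSite.Mod O) (n : ℕ) :
    Nonempty (Ext ((ModSite.quotOn O U).obj (ModSite.unit O)) F n ≃+ ModSite.HZ U F n) := by
  haveI : PreservesFiniteColimits (SheafOfModules.toSheaf (ModSite.ringSh O)) :=
    haveI : PreservesColimitsOfSize.{u, u} (SheafOfModules.toSheaf (ModSite.ringSh O)) := ⟨inferInstance⟩
    PreservesColimitsOfSize.preservesFiniteColimits _
  exact ⟨AddEquiv.ofBijective _ (bijective_extCompHom (R := SheafOfModules.toSheaf (ModSite.ringSh O)) (ηQ O U)
    (bijective_ηQ O U)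
    (fun I _ k => subsingleton_ext_quotZ (isTotallyAcyclic_injective (ModSite.ringSh O) I) _ k) n F)⟩

theorem subsingleton_ext_quotUnit {F : ModSite.Mod O} (hF : CohCx.IsTotallyAcyclic (ModSite.toAb F)) (k : ℕ) :
    Subsingleton (Ext ((ModSite.quotOn O U).obj (ModSite.unit O)) F (k + 1)) :=
  haveI : Subsingleton (ModSite.HZ U F (k + 1)) := subsingleton_ext_quotZ hF _ k
  (exists_quotExtEquiv O U F (k + 1)).some.toEquiv.subsingleton

end Groth.Agent.ExtSupp8
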