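import Groth.Agent.Lib.ExtSupp8.RestrHom
import Groth.Agent.Lib.ExtSupp8.Quot
import Groth.Agent.Lib.ExtDerived.Natural
import Groth.Agent.Lib.RDComp.Basic
import Groth.Prelude.Def_ExtSupp
import Mathlib.Algebra.Homology.DerivedCategory.Ext.EnoughInjectives

/-!
# Excision for Ext with supports

For `U`, `V` covering the site with `V` subterminal, morphisms out of `M` killed on `U` are the same as
morphisms out of `M|_V` killed on `U × V`.
-/

set_option autoImplicit false
set_option backward.isDefEq.respectTransparency false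
set_option backward.isDefEq.respectTransparency.types false

universe w w' u

open CategoryTheory CategoryTheory.Limits Opposite CategoryTheory.Abelian

noncomputable section

namespace Groth.Agent.ExtSupp8

variable {C : Type u} [SmallCategory C] {J : GrothendieckTopology C} {O : Sheaf J CommRingCat.{u}}

theorem restr_map_eq_zero_iff_sections (U : C) {M N : ModSite.Mod O} (φ : M ⟶ N) :
    (ModSite.restr O U).map φ = 0 ↔ ∀ (Y : C) (_ : Y ⟶ U) (x : M.val.obj (op Y)), φ.val.app (op Y) x = 0 := by
  constructor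
  · intro h Y a x
    exact congrArg (fun t : (ModSite.restr O U).obj M ⟶ (ModSite.restr O U).obj N => t.val.app (op (Over.mk a)) x) h
  · intro h
    exact SheafOfModules.hom_ext (PresheafOfModules.hom_ext fun A =>
      ModuleCat.hom_ext (LinearMap.ext fun x => h A.unop.left A.unop.hom x))

theorem isNullOn_quotOn' (U : C) (M : ModSite.Mod O) : ModSite.IsNullOn O U ((ModSite.quotOn O U).obj M) := by
  have : IsSplitEpi ((ModSite.restr O U).map ((ModSite.extZeroAdj O U).counit.app M)) :=
    ⟨⟨⟨_, (ModSite.extZeroAdj O U).right_triangle_components M⟩⟩⟩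
  exact (isZero_cokernel_of_epi ((ModSite.restr O U).map ((ModSite.extZeroAdj O U).counit.app M))).of_iso
    (PreservesCokernel.iso (ModSite.restr O U) ((ModSite.extZeroAdj O U).counit.app M))

variable {U V : C} (hV : ∀ X : C, Subsingleton (X ⟶ V)) (hUV : J.CoversTop (fun b : Bool => cond b U V))

include hUV

theorem mem_sieve_of_V {X Y : C} (g : Y ⟶ X) (v : Y ⟶ V) :
    Sieve.ofObjects (fun b : Bool => cond b U V) X g := ⟨false, ⟨v⟩⟩

theorem mem_sieve_of_U {X Y : C} (g : Y ⟶ X) (a : Y ⟶ U) :
    Sieve.ofObjects (fun b : Bool => cond b U V) X g := ⟨true, ⟨a⟩⟩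

theorem sect_ext_of_cover (N : ModSite.Mod O) {X : C} (z z' : N.val.obj (op X))
    (hv : ∀ (Y : C) (g : Y ⟶ X), (Y ⟶ V) → N.val.map g.op z = N.val.map g.op z')
    (ha : ∀ (Y : C) (g : Y ⟶ X), (Y ⟶ U) → N.val.map g.op z = N.val.map g.op z') : z = z' := by
  rw [← sub_eq_zero]
  refine sect_eq_zero_of_locally O N _ _ (hUV X) fun Y g hg => ?_
  obtain ⟨b, ⟨t⟩⟩ := hg
  rw [map_sub, sub_eq_zero]
  cases b
  · exact hv Y g t
  · exact ha Y g t

section Glue

variable {M N : ModSite.Mod O} (ψ : (ModSite.restr O V).obj M ⟶ (ModSite.restr O V).obj N)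

omit hUV in
/-- `z` is the glueing of `ψ` and `0` at `x`. -/
def IsGlue {X : C} (x : M.val.obj (op X)) (z : N.val.obj (op X)) : Prop :=
  ∀ (Y : C) (g : Y ⟶ X), (∀ v : Y ⟶ V, N.val.map g.op z = ψ.val.app (op (Over.mk v)) (M.val.map g.op x)) ∧
    ((Y ⟶ U) → N.val.map g.op z = 0)

theorem isGlue_unique {X : C} {x : M.val.obj (op X)} {z z' : N.val.obj (op X)}
    (h : IsGlue (U := U) ψ x z) (h' : IsGlue (U := U) ψ x z') : z = z' :=
  sect_ext_of_cover hUV N z z' (fun Y g v => ((h Y g).1 v).trans ((h' Y g).1 v).symm)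
    (fun Y g a => ((h Y g).2 a).trans ((h' Y g).2 a).symm)

include hV in
theorem exists_isGlue (hψ : ∀ (Y : C) (v : Y ⟶ V) (_ : Y ⟶ U) (t : M.val.obj (op Y)), ψ.val.app (op (Over.mk v)) t = 0)
    {X : C} (x : M.val.obj (op X)) : ∃ z : N.val.obj (op X), IsGlue (U := U) ψ x z := by
  classical
  let P : Cᵒᵖ ⥤ Type u := N.val.presheaf ⋙ forget AddCommGrpCat.{u}
  have hP : Presieve.IsSheaf J P :=
    (isSheaf_iff_isSheaf_of_type J P).1
      ((sheafCompose J (forget AddCommGrpCat.{u})).obj ((SheafOfModules.toSheaf _).obj N)).property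
  let S := Sieve.ofObjects (fun b : Bool => cond b U V) X
  let fam : Presieve.FamilyOfElements P S.arrows := fun Y g _ =>
    if h : Nonempty (Y ⟶ V) then (ψ.val.app (op (Over.mk h.some)) (M.val.map g.op x) : N.val.obj (op Y))
    else (0 : N.val.obj (op Y))
  have fam_v : ∀ {Y : C} (g : Y ⟶ X) (hg : S g) (v : Y ⟶ V),
      fam g hg = ψ.val.app (op (Over.mk v)) (M.val.map g.op x) := by
    intro Y g hg v
    haveI := hV Y
    have h : Nonempty (Y ⟶ V) := ⟨v⟩
    obtain rfl : v = h.some := Subsingleton.elim _ _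
    exact dif_pos h
  have fam_a : ∀ {Y : C} (g : Y ⟶ X) (hg : S g) (_ : Y ⟶ U), fam g hg = (0 : N.val.obj (op Y)) := by
    intro Y g hg a
    by_cases h : Nonempty (Y ⟶ V)
    · exact (fam_v g hg h.some).trans (hψ Y _ a _)
    · exact dif_neg h
  have hc : fam.Compatible := by
    rw [Presieve.compatible_iff_sieveCompatible]
    intro Y Z g k hg
    change fam (k ≫ g) (S.downward_closed hg k) = N.val.map k.op (fam g hg)
    by_cases h : Nonempty (Y ⟶ V)
    · rw [fam_v g hg h.some, fam_v (k ≫ g) (S.downward_closed hg k) (k ≫ h.some)]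
      refine Eq.trans ?_ (PresheafOfModules.naturality_apply ψ.val
        (Over.homMk k : Over.mk (k ≫ h.some) ⟶ Over.mk h.some).op (M.val.map g.op x))
      exact congrArg (ψ.val.app (op (Over.mk (k ≫ h.some)))) (M.val.map_comp_apply g.op k.op x)
    · obtain ⟨b, ⟨t⟩⟩ := hg
      cases b
      · exact absurd ⟨t⟩ h
      · rw [fam_a g (mem_sieve_of_U hUV g t) t, fam_a (k ≫ g) (mem_sieve_of_U hUV (k ≫ g) (k ≫ t)) (k ≫ t)]
        exact (map_zero (N.val.map k.op).hom).symm
  obtain ⟨z, hz, -⟩ := hP S (hUV X) fam hc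
  exact ⟨z, fun Y g => ⟨fun v => (hz g (mem_sieve_of_V hUV g v)).trans (fam_v g (mem_sieve_of_V hUV g v) v),
    fun a => (hz g (mem_sieve_of_U hUV g a)).trans (fam_a g (mem_sieve_of_U hUV g a) a)⟩⟩

variable (hψ : ∀ (Y : C) (v : Y ⟶ V) (_ : Y ⟶ U) (t : M.val.obj (op Y)), ψ.val.app (op (Over.mk v)) t = 0)

/-- The glued section. -/
def glueFun (X : C) (x : M.val.obj (op X)) : N.val.obj (op X) := (exists_isGlue hV hUV ψ hψ x).choose

theorem glueFun_spec (X : C) (x : M.val.obj (op X)) : IsGlue (U := U) ψ x (glueFun hV hUV ψ hψ X x) :=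
  (exists_isGlue hV hUV ψ hψ x).choose_spec

theorem glueFun_eq {X : C} {x : M.val.obj (op X)} {z : N.val.obj (op X)} (h : IsGlue (U := U) ψ x z) :
    glueFun hV hUV ψ hψ X x = z := isGlue_unique hUV ψ (glueFun_spec hV hUV ψ hψ X x) h

/-- The glueing of `ψ` and `0`. -/
def glue : M ⟶ N where
  val :=
    { app := fun A => ModuleCat.ofHom
        (Y := N.val.obj A)
        { toFun := fun x => glueFun hV hUV ψ hψ A.unop x
          map_add' := fun x y => glueFun_eq hV hUV ψ hψ fun Y g => by
            have hx := glueFun_spec hV hUV ψ hψ A.unop x Y g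
            have hy := glueFun_spec hV hUV ψ hψ A.unop y Y g
            refine ⟨fun v => ?_, fun a => ?_⟩
            · rw [map_add, map_add, hx.1 v, hy.1 v]
              exact (map_add (ψ.val.app (op (Over.mk v))).hom _ _).symm
            · rw [map_add, hx.2 a, hy.2 a, add_zero]
          map_smul' := fun r x => glueFun_eq hV hUV ψ hψ fun Y g => by
            have hx := glueFun_spec hV hUV ψ hψ A.unop x Y g
            refine ⟨fun v => ?_, fun a => ?_⟩
            · rw [RingHom.id_apply]
              erw [PresheafOfModules.map_smul, PresheafOfModules.map_smul]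
              rw [hx.1 v]
              exact (map_smul (ψ.val.app (op (Over.mk v))).hom _ _).symm
            · rw [RingHom.id_apply]
              erw [PresheafOfModules.map_smul]
              rw [hx.2 a]
              exact smul_zero _ }
      naturality := fun {A B} f => ModuleCat.hom_ext (LinearMap.ext fun x =>
        glueFun_eq hV hUV ψ hψ fun Y g => by
          have hx := glueFun_spec hV hUV ψ hψ A.unop x Y (g ≫ f.unop)
          have hN := N.val.map_comp_apply f g.op (glueFun hV hUV ψ hψ A.unop x)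
          have hM := M.val.map_comp_apply f g.op x
          refine ⟨fun v => ?_, fun a => ?_⟩
          · exact hN.symm.trans ((hx.1 v).trans (congrArg _ hM))
          · exact hN.symm.trans (hx.2 a)) }

theorem restr_map_glue : (ModSite.restr O V).map (glue hV hUV ψ hψ) = ψ :=
  SheafOfModules.hom_ext (PresheafOfModules.hom_ext fun A => ModuleCat.hom_ext (LinearMap.ext fun x => by
    have h := (glueFun_spec hV hUV ψ hψ A.unop.left x A.unop.left (𝟙 _)).1 A.unop.hom
    rw [op_id, PresheafOfModules.map_id] at h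
    erw [PresheafOfModules.map_id] at h
    exact h))

theorem restr_map_glue_U : (ModSite.restr O U).map (glue hV hUV ψ hψ) = 0 :=
  (restr_map_eq_zero_iff_sections U _).2 fun Y a x => by
    have h := (glueFun_spec hV hUV ψ hψ Y x Y (𝟙 _)).2 a
    rw [op_id, PresheafOfModules.map_id] at h
    exact h

end Glue

/-- Maps killed on `U` are determined on `V`. -/
theorem hom_ext_of_cover {M N : ModSite.Mod O} (φ φ' : M ⟶ N)
    (hv : (ModSite.restr O V).map φ = (ModSite.restr O V).map φ')
    (ha : (ModSite.restr O U).map φ = (ModSite.restr O U).map φ') : φ = φ' :=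
  SheafOfModules.hom_ext (PresheafOfModules.hom_ext fun A => ModuleCat.hom_ext (LinearMap.ext fun x =>
    sect_ext_of_cover hUV N (X := A.unop) _ _
      (fun Y g v => by
        refine (PresheafOfModules.naturality_apply φ.val g.op x).symm.trans
          (Eq.trans ?_ (PresheafOfModules.naturality_apply φ'.val g.op x))
        exact congrArg (fun t : (ModSite.restr O V).obj M ⟶ (ModSite.restr O V).obj N =>
          t.val.app (op (Over.mk v)) (M.val.map g.op x)) hv)
      (fun Y g a => by
        refine (PresheafOfModules.naturality_apply φ.val g.op x).symm.trans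
          (Eq.trans ?_ (PresheafOfModules.naturality_apply φ'.val g.op x))
        exact congrArg (fun t : (ModSite.restr O U).obj M ⟶ (ModSite.restr O U).obj N =>
          t.val.app (op (Over.mk a)) (M.val.map g.op x)) ha)))

variable [HasBinaryProducts C]

include hV in
/-- `Hom(M/M_U, N) = Hom(M|_V/(M|_V)_{U × V}, N|_V)`. -/
def homExcisionEquiv (M N : ModSite.Mod O) :
    ((ModSite.quotOn O U).obj M ⟶ N) ≃+
      ((ModSite.quotOn (O.over V) (Over.mk (prod.snd : U ⨯ V ⟶ V))).obj ((ModSite.restr O V).obj M) ⟶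
        (ModSite.restr O V).obj N) where
  toFun f := quotDesc ((ModSite.restr O V).map ((ModSite.quotOnπ O U).app M ≫ f))
    ((restr_map_eq_zero_iff_sections (O := O.over V) (Over.mk (prod.snd : U ⨯ V ⟶ V)) _).2 fun Y a x => by
      have h0 : (ModSite.restr O U).map ((ModSite.quotOnπ O U).app M ≫ f) = 0 := by
        rw [Functor.map_comp, restr_map_eq_zero_of_null_tgt (isNullOn_quotOn' U M), zero_comp]
      exact (restr_map_eq_zero_iff_sections U _).1 h0 Y.left (a.left ≫ prod.fst) x)
  invFun g := quotDesc (glue hV hUV ((ModSite.quotOnπ (O.over V) _).app _ ≫ g) (fun Y v a t => by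
      have h0 : (ModSite.restr (O.over V) (Over.mk (prod.snd : U ⨯ V ⟶ V))).map
          ((ModSite.quotOnπ (O.over V) _).app ((ModSite.restr O V).obj M) ≫ g) = 0 := by
        rw [Functor.map_comp, restr_map_eq_zero_of_null_tgt (isNullOn_quotOn' (O := O.over V) _ _), zero_comp]
      exact (restr_map_eq_zero_iff_sections (O := O.over V) _ _).1 h0 (Over.mk v)
        (Over.homMk (prod.lift a v) (prod.lift_snd a v)) t))
    (restr_map_glue_U hV hUV _ _)
  left_inv f := by
    haveI := epi_quotOnπ O U M
    rw [← cancel_epi ((ModSite.quotOnπ O U).app M), quotOnπ_quotDesc]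
    refine hom_ext_of_cover hUV _ _ ?_ ?_
    · rw [restr_map_glue, quotOnπ_quotDesc]
    · rw [restr_map_glue_U, Functor.map_comp, restr_map_eq_zero_of_null_tgt (isNullOn_quotOn' U M),
        zero_comp]
  right_inv g := by
    haveI := epi_quotOnπ (O.over V) (Over.mk (prod.snd : U ⨯ V ⟶ V)) ((ModSite.restr O V).obj M)
    rw [← cancel_epi ((ModSite.quotOnπ (O.over V) _).app _), quotOnπ_quotDesc, quotOnπ_quotDesc, restr_map_glue]
    rfl
  map_add' f f' := by
    haveI := epi_quotOnπ (O.over V) (Over.mk (prod.snd : U ⨯ V ⟶ V)) ((ModSite.restr O V).obj M)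
    rw [← cancel_epi ((ModSite.quotOnπ (O.over V) _).app _), quotOnπ_quotDesc, Preadditive.comp_add (f := (ModSite.quotOnπ (O.over V) _).app _),
      quotOnπ_quotDesc, quotOnπ_quotDesc, Preadditive.comp_add, Functor.map_add]

include hV in
theorem homExcisionEquiv_naturality (M : ModSite.Mod O) {N N' : ModSite.Mod O} (k : N ⟶ N')
    (f : (ModSite.quotOn O U).obj M ⟶ N) :
    homExcisionEquiv hV hUV M N' (f ≫ k) = homExcisionEquiv hV hUV M N f ≫ (ModSite.restr O V).map k := by
  haveI := epi_quotOnπ (O.over V) (Over.mk (prod.snd : U ⨯ V ⟶ V)) ((ModSite.restr O V).obj M)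
  rw [← cancel_epi ((ModSite.quotOnπ (O.over V) _).app _)]
  dsimp only [homExcisionEquiv, AddEquiv.coe_mk, Equiv.coe_fn_mk]
  rw [quotOnπ_quotDesc]
  refine Eq.trans ?_ (Category.assoc _ _ _)
  erw [quotOnπ_quotDesc]
  rw [← Functor.map_comp, Category.assoc]

include hV in
/-- `Hom(M/M_U, -)` factors through restriction to `V`. -/
def excisionNatIso (M : ModSite.Mod O) :
    preadditiveCoyoneda.obj (op ((ModSite.quotOn O U).obj M)) ≅
      ModSite.restr O V ⋙ preadditiveCoyoneda.obj
        (op ((ModSite.quotOn (O.over V) (Over.mk (prod.snd : U ⨯ V ⟶ V))).obj ((ModSite.restr O V).obj M))) :=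
  NatIso.ofComponents
    (fun N => AddEquiv.toAddCommGrpIso
      (X := AddCommGrpCat.of ((ModSite.quotOn O U).obj M ⟶ N))
      (Y := AddCommGrpCat.of
        ((ModSite.quotOn (O.over V) (Over.mk (prod.snd : U ⨯ V ⟶ V))).obj ((ModSite.restr O V).obj M) ⟶
          (ModSite.restr O V).obj N))
      (homExcisionEquiv hV hUV M N))
    fun {N N'} k => AddCommGrpCat.hom_ext (AddMonoidHom.ext fun f => homExcisionEquiv_naturality hV hUV M k f)

include hV in
/-- Excision for Ext with supports. -/
theorem nonempty_extZ_excision [HasExt.{w} (ModSite.Mod O)] [HasExt.{w'} (ModSite.Mod (O.over V))]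
    (M N : ModSite.Mod O) (i : ℕ) :
    Nonempty (ExtSupp.ExtZ U M N i ≃+ ExtSupp.ExtZover V (Over.mk (prod.snd : U ⨯ V ⟶ V)) M N i) := by
  letI := HasDerivedCategory.standard (ModSite.Mod O)
  letI := HasDerivedCategory.standard (ModSite.Mod (O.over V))
  haveI : EnoughInjectives (ModSite.Mod O) := inferInstance
  haveI : EnoughInjectives (ModSite.Mod (O.over V)) := inferInstance
  haveI hO : HasExt.{u} (ModSite.Mod O) := hasExt_of_enoughInjectives _
  haveI hV' : HasExt.{u} (ModSite.Mod (O.over V)) := hasExt_of_enoughInjectives _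
  let A := (ModSite.quotOn O U).obj M
  let B := (ModSite.quotOn (O.over V) (Over.mk (prod.snd : U ⨯ V ⟶ V))).obj ((ModSite.restr O V).obj M)
  let e := (ExtDerived.rightDerivedCoyonedaIso A i N).symm ≪≫
    (ExtDerived.rightDerivedMapIso i (excisionNatIso hV hUV M)).app N ≪≫
    (RDComp.rightDerivedCompIso (ModSite.restr O V) (preadditiveCoyoneda.obj (op B)) i).app N ≪≫
    ExtDerived.rightDerivedCoyonedaIso B i ((ModSite.restr O V).obj N)
  exact ⟨((Ext.homAddEquiv.{_, w}).trans (Ext.homAddEquiv.{_, u}).symm).trans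
    (e.addCommGroupIsoToAddEquiv.trans ((Ext.homAddEquiv.{_, u}).trans (Ext.homAddEquiv.{_, w'}).symm))⟩

end Groth.Agent.ExtSupp8
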