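import Groth.Agent.Lib.ExtSupp8.Restr
import Groth.Agent.Lib.ExtSupp8.Hom
import Groth.Agent.Lib.RDComp.Basic
import Groth.Agent.Lib.RDComp.Post

/-!
# Restriction to a localised site commutes with internal hom
-/

set_option autoImplicit false
set_option backward.isDefEq.respectTransparency false
set_option backward.isDefEq.respectTransparency.types false

universe u

open CategoryTheory CategoryTheory.Limits Opposite Groth.Agent.ModFlat16

noncomputable section

namespace Groth.Agent.ExtSupp8

variable {C : Type u} [SmallCategory C] {J : GrothendieckTopology C} (O : Sheaf J CommRingCat.{u}) (X : C)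

/-- `ℋom(M, N)|_X ≅ ℋom(M|_X, N|_X)`. -/
def restrHomIso (M : ModSite.Mod O) [ModSite.HasSheafHom M] [ModSite.HasSheafHom ((ModSite.restr O X).obj M)] :
    ModSite.sheafHom M ⋙ ModSite.restr O X ≅
      ModSite.restr O X ⋙ ModSite.sheafHom ((ModSite.restr O X).obj M) :=
  conjugateIsoEquiv ((ModSite.extZeroAdj O X).comp (ModSite.sheafHomAdj M))
    ((ModSite.sheafHomAdj ((ModSite.restr O X).obj M)).comp (ModSite.extZeroAdj O X)) (projLeft O X M)

instance preservesInjectiveObjects_restr : (ModSite.restr O X).PreservesInjectiveObjects :=
  haveI := preservesFiniteLimits_extZero O X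
  Functor.preservesInjectiveObjects_of_adjunction_of_preservesMonomorphisms (ModSite.extZeroAdj O X)

instance preservesHomology_restr : (ModSite.restr O X).PreservesHomology := inferInstance

end Groth.Agent.ExtSupp8
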