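import Groth.Agent.Lib.ExtSupp8.GammaAcyclic
import Groth.Agent.Lib.ExtSupp8.RestrHom
import Groth.Agent.Lib.RDSeq.Basic
import Groth.Agent.Lib.RDComp.Basic

/-!
# `ℋ^1_Z` and `ℋ^{q+1}_Z` through the open immersion
-/

set_option autoImplicit false
set_option backward.isDefEq.respectTransparency false
set_option backward.isDefEq.respectTransparency.types false

universe u

open CategoryTheory CategoryTheory.Limits Opposite
open Groth.Agent.SiteCoh

noncomputable section

namespace Groth.Agent.ExtSupp8

open ModSite

variable {C : Type u} [SmallCategory C] {J : GrothendieckTopology C} (O : Sheaf J CommRingCat.{u}) (U : C)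

variable {O U} in
/-- A section of `B` killed by `χ` over `U` gives a map from the free module killed by `χ`. -/
theorem restr_comp_eq_zero_of_sections {B A : ModSite.Mod O} {V : C} (x : B.val.obj (op V))
    (χ : (ModSite.restr O U).obj B ⟶ (ModSite.restr O U).obj A)
    (h : ∀ (W : C) (g : W ⟶ V) (a : W ⟶ U), χ.val.app (op (Over.mk a)) (B.val.map g.op x) = 0) :
    ∃ φ : (frM (ModSite.ringSh O)).obj (yoneda.obj V) ⟶ B, (ModSite.restr O U).map φ ≫ χ = 0 ∧
      (φ = 0 → x = 0) := by
  let s : yoneda.obj V ⟶ (undP J).obj (ModSite.toAb B) := yonedaEquiv.symm x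
  let φ : (frM (ModSite.ringSh O)).obj (yoneda.obj V) ⟶ B :=
    (frMHom (ModSite.ringSh O) (yoneda.obj V) B).symm s
  have hφ : frMHom (ModSite.ringSh O) (yoneda.obj V) B φ = s := Equiv.apply_symm_apply _ s
  let P := (PresheafOfModules.free (ModSite.ringSh O).obj).obj (yoneda.obj V)
  let u := (KFlat.Site.adj O).unit.app P
  let f : P ⟶ B.val := PresheafOfModules.sheafificationHomEquiv (𝟙 (ModSite.ringSh O).obj) φ
  refine ⟨φ, ?_, fun h0 => ?_⟩
  · have hu : ∀ (W : C) (a : W ⟶ U) (z : P.obj (op W)),
        χ.val.app (op (Over.mk a)) (φ.val.app (op W) (u.app (op W) z)) = 0 := by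
      intro W a z
      let χW : B.val.obj (op W) ⟶ A.val.obj (op W) := ModuleCat.ofHom
        (X := B.val.obj (op W)) (Y := A.val.obj (op W))
        { toFun := fun t => χ.val.app (op (Over.mk a)) t
          map_add' := fun t t' => map_add (χ.val.app (op (Over.mk a))).hom t t'
          map_smul' := fun r t => map_smul (χ.val.app (op (Over.mk a))).hom r t }
      have hf : f.app (op W) ≫ χW = 0 := by
        refine ModuleCat.free_hom_ext fun g => ?_
        exact (congrArg (fun t : yoneda.obj V ⟶ (undP J).obj (ModSite.toAb B) => χW (t.app (op W) g)) hφ).trans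
          (h W g a)
      exact congrArg (fun t : P.obj (op W) ⟶ A.val.obj (op W) => t z) hf
    refine SheafOfModules.hom_ext (PresheafOfModules.hom_ext fun T => ModuleCat.hom_ext (LinearMap.ext fun t => ?_))
    let W : C := T.unop.left
    let a : W ⟶ U := T.unop.hom
    change χ.val.app (op (Over.mk a))
      (φ.val.app (op W) (t : ((frM (ModSite.ringSh O)).obj (yoneda.obj V)).val.obj (op W))) = (0 : A.val.obj (op W))
    have hW := (J.W_iff_isLocallyBijective _).1 (KFlat.Site.W_unit O P)
    haveI := hW.2
    refine sect_eq_zero_of_locally O A _ _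
      (Presheaf.imageSieve_mem J ((PresheafOfModules.toPresheaf _).map u) t) fun W' g hg => ?_
    obtain ⟨z, hz⟩ := hg
    refine (PresheafOfModules.naturality_apply χ.val (Over.homMk g : Over.mk (g ≫ a) ⟶ Over.mk a).op _).symm.trans ?_
    refine Eq.trans (congrArg (χ.val.app (op (Over.mk (g ≫ a))))
      ((PresheafOfModules.naturality_apply φ.val g.op t).symm.trans (congrArg (φ.val.app (op W')) hz.symm))) ?_
    exact hu W' (g ≫ a) z
  · have e1 : φ.val.app (op V) (u.app (op V) (ModuleCat.freeMk (𝟙 V))) = x :=
      (congrArg (fun t : yoneda.obj V ⟶ (undP J).obj (ModSite.toAb B) => t.app (op V) (𝟙 V)) hφ).trans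
        ((yonedaEquiv (F := (undP J).obj (ModSite.toAb B)) (X := V)).apply_symm_apply x)
    rw [h0] at e1
    exact e1.symm

variable [ModSite.HasPushOver O U] (hU : ∀ V : C, Subsingleton (V ⟶ U))

include hU in
/-- For `U` subterminal the unit `I ⟶ j_*(I|_U)` is an epimorphism when `I` is injective. -/
theorem epi_unit_of_injective (I : ModSite.Mod O) [Injective I] :
    Epi ((ModSite.restrPushOverAdj O U).unit.app I) := by
  let η := (ModSite.restrPushOverAdj O U).unit.app I
  refine (SheafOfModules.toSheaf (ModSite.ringSh O)).epi_of_epi_map (epi_of_surjective_sections _ fun V s => ?_)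
  change ((ModSite.pushOver O U).obj ((ModSite.restr O U).obj I)).val.obj (op V) at s
  let Jm := (ModSite.pushOver O U).obj ((ModSite.restr O U).obj I)
  let χ : (ModSite.restr O U).obj Jm ⟶ (ModSite.restr O U).obj I :=
    (ModSite.restrPushOverAdj O U).counit.app _
  have htri : ∀ {W : C} (a : W ⟶ U) (t : I.val.obj (op W)),
      χ.val.app (op (Over.mk a)) (η.val.app (op W) t) = t := fun a t =>
    congrArg (fun k : (ModSite.restr O U).obj I ⟶ (ModSite.restr O U).obj I => k.val.app (op (Over.mk a)) t)
      ((ModSite.restrPushOverAdj O U).left_triangle_components I)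
  let b : (sieveU U V).toFunctor ⟶ (undP J).obj (ModSite.toAb I) :=
    { app := fun A => ↾fun g => (χ.val.app (op (Over.mk g.2.some)) (Jm.val.map g.1.op s) : I.val.obj A)
      naturality := fun A A' k => by
        ext g
        haveI := hU A'.unop
        have key : ∀ (a' : A'.unop ⟶ U),
            χ.val.app (op (Over.mk a')) (Jm.val.map (k.unop ≫ g.1).op s) =
              I.val.map k (χ.val.app (op (Over.mk g.2.some)) (Jm.val.map g.1.op s)) := by
          intro a'
          obtain rfl : a' = k.unop ≫ g.2.some := Subsingleton.elim _ _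
          refine Eq.trans ?_ (PresheafOfModules.naturality_apply χ.val
            (Over.homMk k.unop : Over.mk (k.unop ≫ g.2.some) ⟶ Over.mk g.2.some).op (Jm.val.map g.1.op s))
          exact congrArg (χ.val.app (op (Over.mk (k.unop ≫ g.2.some)))) (Jm.val.map_comp_apply g.1.op k s)
        exact key _ }
  haveI : Mono (sieveU U V).ι := inferInstance
  obtain ⟨z, hz⟩ := surjective_restrict_of_totallyAcyclic (isTotallyAcyclic_injective (ModSite.ringSh O) I)
    (sieveU U V).ι (((frAdj J).homEquiv _ _).symm b)
  let c := (frAdj J).homEquiv _ _ z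
  have hc : (sieveU U V).ι ≫ c = b := by
    rw [← Adjunction.homEquiv_naturality_left, hz, Equiv.apply_symm_apply]
  let m₀ : I.val.obj (op V) := c.app (op V) (𝟙 V)
  have hm : ∀ (W : C) (g : W ⟶ V) (a : W ⟶ U),
      χ.val.app (op (Over.mk a)) (Jm.val.map g.op s) = I.val.map g.op m₀ := by
    intro W g a
    haveI := hU W
    have e1 : I.val.map g.op m₀ = b.app (op W) ⟨g, ⟨a⟩⟩ := by
      refine (NatTrans.naturality_apply c g.op (𝟙 V)).symm.trans ?_
      refine (congrArg (c.app (op W)) (Category.comp_id g : g ≫ 𝟙 V = g)).trans ?_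
      exact congrArg (fun t => t.app (op W) ⟨g, ⟨a⟩⟩) hc
    refine Eq.trans ?_ e1.symm
    let F : (W ⟶ U) → I.val.obj (op W) := fun a' => χ.val.app (op (Over.mk a')) (Jm.val.map g.op s)
    exact congrArg F (Subsingleton.elim a _)
  obtain ⟨φ, hφ, hx⟩ := restr_comp_eq_zero_of_sections (show Jm.val.obj (op V) from (s : Jm.val.obj (op V)) - (show Jm.val.obj (op V) from η.val.app (op V) m₀)) χ
    (fun W g a => by
      refine (congrArg (χ.val.app (op (Over.mk a))) (map_sub (Jm.val.map g.op).hom _ _)).trans ?_
      refine (map_sub (χ.val.app (op (Over.mk a))).hom _ _).trans (sub_eq_zero.2 ?_)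
      refine (hm W g a).trans ?_
      exact ((congrArg (χ.val.app (op (Over.mk a))) (PresheafOfModules.naturality_apply η.val g.op m₀).symm).trans
        (htri a _)).symm)
  have h0 : φ = 0 := by
    apply ((ModSite.restrPushOverAdj O U).homEquiv _ _).symm.injective
    rw [Adjunction.homEquiv_counit, Adjunction.homEquiv_counit, Functor.map_zero, zero_comp]
    exact hφ
  exact ⟨m₀, (sub_eq_zero.1 (hx h0)).symm⟩

theorem isZero_rightDerived_id {A : Type*} [Category A] [Abelian A] [EnoughInjectives A] (X : A) (i : ℕ) :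
    IsZero (((𝟭 A).rightDerived (i + 1)).obj X) := by
  let R := injectiveResolution X
  refine IsZero.of_iso ?_ (R.isoRightDerivedObj _ (i + 1))
  exact (R.cocomplex_exactAt_succ i).isZero_homology.of_iso (Iso.refl _)

variable [(ModSite.pushOver O U).Additive] [HasInjectiveResolutions (ModSite.Mod O)]
  [HasInjectiveResolutions (ModSite.Mod (O.over U))]

omit [HasInjectiveResolutions (ModSite.Mod O)] [HasInjectiveResolutions (ModSite.Mod (O.over U))]
  [(ModSite.pushOver O U).Additive] in
theorem seq_zero (F : ModSite.Mod O) :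
    (ModSite.sectOnι O U).app F ≫ (ModSite.restrPushOverAdj O U).unit.app F = 0 :=
  kernel.condition _

omit [HasInjectiveResolutions (ModSite.Mod O)] [HasInjectiveResolutions (ModSite.Mod (O.over U))]
  [(ModSite.pushOver O U).Additive] in
include hU in
theorem seq_shortExact (I : ModSite.Mod O) [Injective I] :
    (ShortComplex.mk _ _ (seq_zero O U I)).ShortExact where
  exact := ShortComplex.exact_kernel _
  mono_f := inferInstanceAs (Mono (kernel.ι ((ModSite.restrPushOverAdj O U).unit.app I)))
  epi_g := epi_unit_of_injective O U hU I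

omit [HasInjectiveResolutions (ModSite.Mod (O.over U))] in
include hU in
theorem nonempty_HZsh_one_iso :
    Nonempty (ModSite.HZsh O U 1 ≅ cokernel (ModSite.restrPushOverAdj O U).unit) :=
  haveI : PreservesLimitsOfSize.{0, 0} (ModSite.pushOver O U) :=
    (ModSite.restrPushOverAdj O U).rightAdjoint_preservesLimits
  haveI : PreservesFiniteLimits (ModSite.pushOver O U) := PreservesLimitsOfSize.preservesFiniteLimits _
  haveI : PreservesFiniteLimits (ModSite.restr O U ⋙ ModSite.pushOver O U) := comp_preservesFiniteLimits _ _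
  RDSeq.nonempty_cokernel_iso (ModSite.sectOnι O U) (ModSite.restrPushOverAdj O U).unit (seq_zero O U)
    (fun I hI => @seq_shortExact _ _ _ O U _ hU I hI) (fun F => isZero_rightDerived_id F 0)

include hU in
theorem nonempty_HZsh_succ_iso (q : ℕ) (hq : 1 ≤ q) :
    Nonempty (ModSite.HZsh O U (q + 1) ≅ ModSite.restr O U ⋙ (ModSite.pushOver O U).rightDerived q) := by
  obtain ⟨m, rfl⟩ : ∃ m, q = m + 1 := ⟨q - 1, by omega⟩
  have := RDSeq.isIso_delta (ModSite.sectOnι O U) (ModSite.restrPushOverAdj O U).unit (seq_zero O U)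
    (fun I hI => @seq_shortExact _ _ _ O U _ hU I hI) (m + 1)
    (fun F => isZero_rightDerived_id F m) (fun F => isZero_rightDerived_id F (m + 1))
  exact ⟨(@asIso _ _ _ _ _ this).symm ≪≫
    RDComp.rightDerivedCompIso (ModSite.restr O U) (ModSite.pushOver O U) (m + 1)⟩

end Groth.Agent.ExtSupp8
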