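import Groth.Agent.Lib.ExtSupp8.Spectral
import Groth.Agent.Lib.SiteCoh.Rpush

/-!
# The spectral sequence from presheaf cohomology to sheaf cohomology
-/

set_option autoImplicit false
set_option backward.isDefEq.respectTransparency false
set_option backward.isDefEq.respectTransparency.types false

universe u

open CategoryTheory CategoryTheory.Limits Opposite Abelian
open Groth.Agent.SiteCoh

noncomputable section

namespace Groth.Agent.ExtSupp8

variable {C : Type u} [SmallCategory C] (J : GrothendieckTopology C)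

instance continuous_bot : (𝟭 C).IsContinuous (⊥ : GrothendieckTopology C) J :=
  ⟨fun _ => Presieve.isSheaf_bot⟩

/-- Sheafification of presheaves seen as sheaves for the trivial topology. -/
abbrev Lb : Sheaf (⊥ : GrothendieckTopology C) AddCommGrpCat.{u} ⥤ Sheaf J AddCommGrpCat.{u} :=
  sheafToPresheaf _ _ ⋙ presheafToSheaf J AddCommGrpCat.{u}

/-- It is left adjoint to the inclusion. -/
def adjBot : Lb J ⊣ CohSite.push J (⊥ : GrothendieckTopology C) (𝟭 C) :=
  Adjunction.mkOfHomEquiv
    { homEquiv := fun P F => ((sheafificationAdjunction J AddCommGrpCat.{u}).homEquiv P.obj F).trans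
        { toFun := fun f => ⟨f⟩
          invFun := fun f => f.hom
          left_inv := fun _ => rfl
          right_inv := fun _ => rfl }
      homEquiv_naturality_left_symm := fun f g =>
        (sheafificationAdjunction J AddCommGrpCat.{u}).homEquiv_naturality_left_symm f.hom g.hom
      homEquiv_naturality_right := fun f g => by
        apply Sheaf.hom_ext
        exact (sheafificationAdjunction J AddCommGrpCat.{u}).homEquiv_naturality_right f g }

instance preservesMono_Lb : (Lb J).PreservesMonomorphisms :=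
  ⟨fun f _ => (presheafToSheaf J AddCommGrpCat.{u}).map_mono ((sheafToPresheaf _ _).map f)⟩

/-- The spectral sequence attached to a presheaf of sets. -/
theorem presheaf_spectralSequence (R : Cᵒᵖ ⥤ Type u) (M : Sheaf J AddCommGrpCat.{u})
    (H : ℕ → AddCommGrpCat.{u}) (eH : ∀ n, Nonempty (Ext ((frP J).obj R) M n ≃+ H n))
    (F : ℕ → ℕ → AddCommGrpCat.{u})
    (eF : ∀ p q, Nonempty (Ext ((frP (⊥ : GrothendieckTopology C)).obj R)
      (⟨M.cohomologyPresheaf q, Presheaf.isSheaf_bot _⟩ : Sheaf (⊥ : GrothendieckTopology C) AddCommGrpCat.{u}) p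
        ≃+ F p q)) :
    ∃ (E : E₂CohomologicalSpectralSequence AddCommGrpCat.{u})
      (a : SpSeq.Abutment E (fun n : ℤ => if 0 ≤ n then H n.toNat else AddCommGrpCat.of PUnit.{u + 1})),
      (∀ n, a.IsFinite n) ∧ SpSeq.IsBounded E ∧
      ∀ p q : ℤ, Nonempty ((E.page 2 le_rfl).X (p, q) ≅
        (if 0 ≤ p ∧ 0 ≤ q then F p.toNat q.toNat else AddCommGrpCat.of PUnit.{u + 1})) := by
  haveI := (adjBot J).left_adjoint_additive
  have hiso : ∀ P : Cᵒᵖ ⥤ AddCommGrpCat.{u},
      IsIso (CategoryTheory.toSheafify (⊥ : GrothendieckTopology C) P) := fun P =>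
    isIso_toSheafify _ (Presheaf.isSheaf_bot P)
  haveI := hiso (R ⋙ AddCommGrpCat.free.{u})
  let eP : (Lb J).obj ((frP (⊥ : GrothendieckTopology C)).obj R) ≅ (frP J).obj R :=
    (presheafToSheaf J AddCommGrpCat.{u}).mapIso
      (asIso (CategoryTheory.toSheafify (⊥ : GrothendieckTopology C) (R ⋙ AddCommGrpCat.free.{u}))).symm
  let e : CohSite.push J (⊥ : GrothendieckTopology C) (𝟭 C) ⋙
      preadditiveCoyoneda.obj (op ((frP (⊥ : GrothendieckTopology C)).obj R)) ≅
      preadditiveCoyoneda.obj (op ((frP J).obj R)) :=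
    NatIso.ofComponents (fun F => ((((adjBot J).homAddEquiv _ F).symm.trans
        { eP.homCongr (Iso.refl F) with map_add' := fun a b => by simp })).toAddCommGrpIso)
      (fun {F G} g => by
        ext f
        change eP.inv ≫ ((adjBot J).homEquiv _ _).symm (f ≫ (CohSite.push J _ (𝟭 C)).map g) ≫ 𝟙 _ =
          (eP.inv ≫ ((adjBot J).homEquiv _ _).symm f ≫ 𝟙 _) ≫ g
        rw [Adjunction.homEquiv_naturality_right_symm]
        simp)
  refine ext_spectralSequence (CohSite.push J (⊥ : GrothendieckTopology C) (𝟭 C)) _ ((frP J).obj R) e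
    (fun I hI k => ?_) M H eH F (fun p q => ?_)
  · haveI := hI
    haveI : Injective ((CohSite.push J (⊥ : GrothendieckTopology C) (𝟭 C)).obj I) :=
      Injective.injective_of_adjoint (adjBot J) I
    exact subsingleton_ext_injective _ _ k
  · obtain ⟨i⟩ := exists_rpush_iso (⊥ : GrothendieckTopology C) (𝟭 C) M q
    let i' : (CohSite.Rpush J (⊥ : GrothendieckTopology C) (𝟭 C) q).obj M ≅
        ⟨M.cohomologyPresheaf q, Presheaf.isSheaf_bot _⟩ :=
      i ≪≫ (sheafificationIso (⟨M.cohomologyPresheaf q, Presheaf.isSheaf_bot _⟩ :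
        Sheaf (⊥ : GrothendieckTopology C) AddCommGrpCat.{u})).symm
    obtain ⟨eq⟩ := eF p q
    exact ⟨(((Abelian.extFunctorObj ((frP (⊥ : GrothendieckTopology C)).obj R) p).mapIso
      i').addCommGroupIsoToAddEquiv).trans eq⟩

end Groth.Agent.ExtSupp8
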