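import Groth.Agent.Lib.ExtSupp8.Quot
import Mathlib.CategoryTheory.Adjunction.Additive
import Mathlib.Algebra.Homology.ShortComplex.PreservesHomology

/-!
# Restriction to a localised site is exact
-/

set_option autoImplicit false
set_option backward.isDefEq.respectTransparency false
set_option backward.isDefEq.respectTransparency.types false

universe u

open CategoryTheory CategoryTheory.Limits Opposite

noncomputable section

namespace Groth.Agent.ExtSupp8

variable {C : Type u} [SmallCategory C] {J : GrothendieckTopology C} (O : Sheaf J CommRingCat.{u}) (U : C)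

instance preservesFiniteLimits_restr : PreservesFiniteLimits (ModSite.restr O U) :=
  haveI : PreservesLimitsOfSize.{0, 0} (ModSite.restr O U) :=
    (ModSite.extZeroAdj O U).rightAdjoint_preservesLimits
  PreservesLimitsOfSize.preservesFiniteLimits _

theorem epi_restr_map {A B : ModSite.Mod O} (f : A ⟶ B) [Epi f] : Epi ((ModSite.restr O U).map f) := by
  refine (SheafOfModules.toSheaf (ModSite.ringSh (O.over U))).epi_of_epi_map ?_
  refine (Sheaf.isLocallySurjective_iff_epi' _ _).1 ⟨fun {V} x => ?_⟩
  obtain ⟨R, hR, hloc⟩ := exists_local_preimage f (V := V.left) x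
  rw [GrothendieckTopology.mem_over_iff]
  refine J.superset_covering ?_ hR
  intro W g hg
  rw [Sieve.overEquiv_iff]
  obtain ⟨a, ha⟩ := hloc g hg
  exact ⟨a, ha⟩

instance preservesEpimorphisms_restr : (ModSite.restr O U).PreservesEpimorphisms :=
  ⟨fun f _ => epi_restr_map O U f⟩

instance preservesFiniteColimits_restr : PreservesFiniteColimits (ModSite.restr O U) :=
  haveI := Functor.preservesHomology_of_preservesEpis_and_kernels (ModSite.restr O U)
  Functor.preservesFiniteColimits_of_preservesHomology _

end Groth.Agent.ExtSupp8
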