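import Groth.Agent.Lib.ExtSupp8.RestrHom
import Groth.Agent.Lib.ExtSupp8.GammaAcyclic

/-!
# Restriction to a localised site commutes with sections with supports
-/

set_option autoImplicit false
set_option backward.isDefEq.respectTransparency false
set_option backward.isDefEq.respectTransparency.types false

universe u

open CategoryTheory CategoryTheory.Limits Opposite

noncomputable section

namespace Groth.Agent.ExtSupp8

variable {C : Type u} [SmallCategory C] {J : GrothendieckTopology C} (O : Sheaf J CommRingCat.{u})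

theorem isIso_of_bijective_sections {M N : ModSite.Mod O} (f : M ⟶ N)
    (h : ∀ Y : C, Function.Bijective (f.val.app (op Y))) : IsIso f :=
  ModFlat16.isIso_of_generating (G := Set.univ)
    (fun Y => ⟨PUnit.{u + 1}, fun _ => Y, fun _ => 𝟙 Y,
      J.superset_covering (fun W g _ => Sieve.downward_closed _
        (Sieve.ofArrows_mk (fun _ : PUnit.{u + 1} => Y) (fun _ => 𝟙 Y) PUnit.unit) g |> fun t => by simpa using t)
        (J.top_mem Y), fun _ => trivial⟩)
    f fun Y _ => h Y

theorem sections_injective_of_mono {M N : ModSite.Mod O} (f : M ⟶ N) [Mono f] (V : C) :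
    Function.Injective (f.val.app (op V)) := fun a b hab => by
  apply (ModFlat16.freeOnHom O V M).symm.injective
  rw [← cancel_mono f]
  apply (ModFlat16.freeOnHom O V N).injective
  rw [ModFlat16.freeOnHom_comp, ModFlat16.freeOnHom_comp, Equiv.apply_symm_apply, Equiv.apply_symm_apply, hab]

variable [HasBinaryProducts C] (U X : C)
  [ModSite.HasPushOver (O.over X) (Over.mk (Limits.prod.snd : U ⨯ X ⟶ X))]

local notation "W" => Over.mk (Limits.prod.snd : U ⨯ X ⟶ X)

/-- The comparison map. -/
def restrSectHom (N : ModSite.Mod O) :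
    (ModSite.restr O X).obj ((ModSite.sectOn O U).obj N) ⟶
      (ModSite.sectOn (O.over X) (Over.mk (Limits.prod.snd : U ⨯ X ⟶ X))).obj ((ModSite.restr O X).obj N) :=
  sectLift ((ModSite.restr O X).map ((ModSite.sectOnι O U).app N))
    (restr_map_eq_zero_of_null_src ((ExtSupp.isNullOn_iff (O.over X) _ _).2 fun A g x =>
      (ExtSupp.isNullOn_iff O U _).1 (isNullOn_sectOn O U N) (g.left ≫ Limits.prod.fst) x) _)

theorem isIso_restrSectHom (N : ModSite.Mod O) : IsIso (restrSectHom O U X N) := by
  haveI := mono_sectOnι O U N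
  refine isIso_of_bijective_sections (O.over X) _ fun A => ?_
  let ι' := (ModSite.sectOnι (O.over X) (Over.mk (Limits.prod.snd : U ⨯ X ⟶ X))).app ((ModSite.restr O X).obj N)
  haveI : Mono ι' := mono_sectOnι _ _ _
  have e : ∀ t, ι'.val.app (op A) ((restrSectHom O U X N).val.app (op A) t) =
      ((ModSite.sectOnι O U).app N).val.app (op A.left) t := fun t =>
    congrArg (fun φ : (ModSite.restr O X).obj ((ModSite.sectOn O U).obj N) ⟶ (ModSite.restr O X).obj N =>
      φ.val.app (op A) t) (sectLift_ι _ _)
  constructor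
  · intro a b hab
    apply sections_injective_of_mono O ((ModSite.sectOnι O U).app N) A.left
    exact (e a).symm.trans ((congrArg (ι'.val.app (op A)) hab).trans (e b))
  · intro y
    obtain ⟨t, ht⟩ := exists_sectOn_preimage (O := O) (U := U) (B := N) (ι'.val.app (op A) y) (fun Z g w => by
      let A' : Over X := Over.mk (g ≫ A.hom)
      let k : A' ⟶ A := Over.homMk g
      let w' : A' ⟶ Over.mk (Limits.prod.snd : U ⨯ X ⟶ X) := Over.homMk (prod.lift w (g ≫ A.hom)) (prod.lift_snd _ _)
      refine (PresheafOfModules.naturality_apply ι'.val k.op y).symm.trans ?_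
      exact (congrArg (ι'.val.app (op A')) ((ExtSupp.isNullOn_iff (O.over X) _ _).1
        (isNullOn_sectOn (O.over X) _ _) w' _)).trans (map_zero _))
    exact ⟨t, sections_injective_of_mono (O.over X) ι' A ((e t).trans ht)⟩

/-- `Γ_Z(N)|_X ≅ Γ_{Z/X}(N|_X)`. -/
def restrSectIso : ModSite.sectOn O U ⋙ ModSite.restr O X ≅
    ModSite.restr O X ⋙ ModSite.sectOn (O.over X) (Over.mk (Limits.prod.snd : U ⨯ X ⟶ X)) :=
  NatIso.ofComponents (fun N => @asIso _ _ _ _ (restrSectHom O U X N) (isIso_restrSectHom O U X N))
    fun {N N'} g => by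
      haveI := mono_sectOnι (O.over X) (Over.mk (Limits.prod.snd : U ⨯ X ⟶ X)) ((ModSite.restr O X).obj N')
      rw [← cancel_mono ((ModSite.sectOnι (O.over X) (Over.mk (Limits.prod.snd : U ⨯ X ⟶ X))).app
        ((ModSite.restr O X).obj N'))]
      dsimp only [Functor.comp_map, asIso_hom]
      rw [Category.assoc, Category.assoc, (ModSite.sectOnι (O.over X) _).naturality]
      dsimp only [restrSectHom, Functor.id_map]
      rw [sectLift_ι, ← Category.assoc, sectLift_ι, ← Functor.map_comp, ← Functor.map_comp]
      exact congrArg (ModSite.restr O X).map ((ModSite.sectOnι O U).naturality g)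

end Groth.Agent.ExtSupp8
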