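import Groth.Agent.Lib.ExtSupp8.RestrSect
import Groth.Agent.Lib.ExtSupp8.GammaAcyclic
import Groth.Agent.Lib.RDComp.Acyclic
import Groth.Agent.Lib.RDComp.Post
import Groth.Agent.Lib.ExtDerived.Natural
import Groth.Agent.Lib.ExtSupp8.Excision

/-!
# Local cohomology sheaves and restriction of scalars
-/

set_option autoImplicit false
set_option backward.isDefEq.respectTransparency false
set_option backward.isDefEq.respectTransparency.types false

universe u

open CategoryTheory CategoryTheory.Limits Opposite

noncomputable section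

namespace Groth.Agent.ExtSupp8

variable {C : Type u} [SmallCategory C] {J : GrothendieckTopology C} {O O' : Sheaf J CommRingCat.{u}}
  (φ : O ⟶ O')

/-- Restriction of scalars along a map of structure sheaves. -/
abbrev res : ModSite.Mod O' ⥤ ModSite.Mod O :=
  SheafOfModules.restrictScalars ((sheafCompose J (forget₂ CommRingCat.{u} RingCat.{u})).map φ)

instance preservesHomology_res : (res φ).PreservesHomology := by
  haveI h1 : PreservesFiniteColimits (SheafOfModules.toSheaf.{u} (ModSite.ringSh O)) :=
    haveI : PreservesColimitsOfSize.{u, u} (SheafOfModules.toSheaf.{u} (ModSite.ringSh O)) := ⟨inferInstance⟩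
    PreservesColimitsOfSize.preservesFiniteColimits _
  haveI h2 : PreservesFiniteColimits (SheafOfModules.toSheaf.{u} (ModSite.ringSh O')) :=
    haveI : PreservesColimitsOfSize.{u, u} (SheafOfModules.toSheaf.{u} (ModSite.ringSh O')) := ⟨inferInstance⟩
    PreservesColimitsOfSize.preservesFiniteColimits _
  exact Functor.preservesHomology_of_map_exact _ fun S hS =>
    ((S.map (res φ)).exact_map_iff_of_faithful (SheafOfModules.toSheaf.{u} (ModSite.ringSh O))).1
      (hS.map (SheafOfModules.toSheaf.{u} (ModSite.ringSh O')))

variable (U : C) [ModSite.HasPushOver O U] [ModSite.HasPushOver O' U]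

theorem res_sectι_vanish (N : ModSite.Mod O') :
    (ModSite.restr O U).map ((res φ).map ((ModSite.sectOnι O' U).app N)) = 0 :=
  (restr_map_eq_zero_iff_sections U _).2 fun Y a x => by
    have hx : (x : ((ModSite.sectOn O' U).obj N).val.obj (op Y)) = 0 :=
      (ExtSupp.isNullOn_iff O' U _).1 (isNullOn_sectOn O' U N) a x
    exact (congrArg (((ModSite.sectOnι O' U).app N).val.app (op Y)) hx).trans (map_zero _)

/-- The comparison map. -/
def resSectHom (N : ModSite.Mod O') :
    (res φ).obj ((ModSite.sectOn O' U).obj N) ⟶ (ModSite.sectOn O U).obj ((res φ).obj N) :=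
  sectLift ((res φ).map ((ModSite.sectOnι O' U).app N)) (res_sectι_vanish φ U N)

theorem isIso_resSectHom (N : ModSite.Mod O') : IsIso (resSectHom φ U N) := by
  refine isIso_of_bijective_sections O _ fun Y => ?_
  haveI := mono_sectOnι O' U N
  haveI := mono_sectOnι O U ((res φ).obj N)
  let ι := (ModSite.sectOnι O U).app ((res φ).obj N)
  let ι' := (ModSite.sectOnι O' U).app N
  have hfac : ∀ x : ((ModSite.sectOn O' U).obj N).val.obj (op Y),
      ι.val.app (op Y) ((resSectHom φ U N).val.app (op Y) x) = ι'.val.app (op Y) x := fun x =>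
    congrArg (fun t : (res φ).obj ((ModSite.sectOn O' U).obj N) ⟶ (res φ).obj N => t.val.app (op Y) x)
      (sectLift_ι _ (res_sectι_vanish φ U N))
  constructor
  · intro x x' h
    apply sections_injective_of_mono O' ι' Y
    exact (hfac x).symm.trans ((congrArg (ι.val.app (op Y)) h).trans (hfac x'))
  · intro y
    obtain ⟨x, hx⟩ := exists_sectOn_preimage (O := O') (U := U) (B := N) (ι.val.app (op Y) y) (fun W g a => by
      refine (PresheafOfModules.naturality_apply ι.val g.op y).symm.trans ?_
      exact (congrArg (ι.val.app (op W)) ((ExtSupp.isNullOn_iff O U _).1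
        (isNullOn_sectOn O U ((res φ).obj N)) a _)).trans (map_zero _))
    exact ⟨x, sections_injective_of_mono O ι Y ((hfac x).trans hx)⟩

/-- Sections with supports commute with restriction of scalars. -/
def resSectIso : ModSite.sectOn O' U ⋙ res φ ≅ res φ ⋙ ModSite.sectOn O U :=
  NatIso.ofComponents (fun N => @asIso _ _ _ _ (resSectHom φ U N) (isIso_resSectHom φ U N))
    fun {N N'} g => by
      haveI := mono_sectOnι O U ((res φ).obj N')
      rw [← cancel_mono ((ModSite.sectOnι O U).app ((res φ).obj N'))]
      dsimp only [Functor.comp_map, asIso_hom]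
      rw [Category.assoc, Category.assoc, (ModSite.sectOnι O U).naturality]
      dsimp only [resSectHom, Functor.id_map]
      rw [sectLift_ι, ← Category.assoc, sectLift_ι, ← Functor.map_comp, ← Functor.map_comp]
      exact congrArg (res φ).map ((ModSite.sectOnι O' U).naturality g)

theorem nonempty_HZsh_res_iso [HasInjectiveResolutions (ModSite.Mod O)]
    [HasInjectiveResolutions (ModSite.Mod O')] (q : ℕ) :
    Nonempty (ModSite.HZsh O' U q ⋙ res φ ≅ res φ ⋙ ModSite.HZsh O U q) := by
  haveI : EnoughInjectives (ModSite.Mod O) := inferInstance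
  haveI : EnoughInjectives (ModSite.Mod O') := inferInstance
  haveI : PreservesLimitsOfSize.{0, 0} (ModSite.sectOn O U) := (quotSectAdj O U).rightAdjoint_preservesLimits
  haveI : PreservesFiniteLimits (ModSite.sectOn O U) := PreservesLimitsOfSize.preservesFiniteLimits _
  obtain ⟨e⟩ := RDComp.nonempty_rightDerivedAcyclicIso (res φ) (ModSite.sectOn O U) (fun I hI => by
    haveI := hI
    exact isAcyclicObj_sectOn O U _ (show CohCx.IsTotallyAcyclic (ModSite.toAb I) from
      Groth.Agent.SiteCoh.isTotallyAcyclic_injective (ModSite.ringSh O') I)) q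
  exact ⟨(RDComp.rightDerivedPostIso (ModSite.sectOn O' U) (res φ) q).symm ≪≫
    ExtDerived.rightDerivedMapIso q (resSectIso φ U) ≪≫ e⟩

end Groth.Agent.ExtSupp8
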