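import Groth.Agent.Lib.ExtSupp8.Hom
import Groth.Agent.Lib.SiteCoh.Basic
import Groth.Agent.Lib.ExtSupp8.Cohom
import Groth.Agent.Lib.SiteCoh.HomAcyclic
import Groth.Agent.Lib.SpObj.Grothendieck
import Groth.Prelude.Def_SpSeq

/-!
# Spectral sequences of composites ending in a Hom functor
-/

set_option autoImplicit false
set_option backward.isDefEq.respectTransparency false
set_option backward.isDefEq.respectTransparency.types false

universe u v

open CategoryTheory CategoryTheory.Limits Opposite Abelian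

noncomputable section

namespace Groth.Agent.ExtSupp8

variable {A : Type v} [Category.{u} A] [Abelian A] [EnoughInjectives A] [HasExt.{u} A]
  {B : Type v} [Category.{u} B] [Abelian B] [EnoughInjectives B] [HasExt.{u} B]

/-- The spectral sequence of `Hom(P, T -)` when its derived functors are `Ext(P', -)`. -/
theorem ext_spectralSequence_of_zero (T : A ⥤ B) [T.Additive] (P : B) (P' : A)
    (e : T ⋙ preadditiveCoyoneda.obj (op P) ≅ preadditiveCoyoneda.obj (op P'))
    (hT : ∀ I : A, Injective I → ∀ k, Subsingleton (Ext P (T.obj I) (k + 1))) (X : A)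
    (Z : AddCommGrpCat.{u}) (hZ : IsZero Z)
    (H : ℕ → AddCommGrpCat.{u}) (eH : ∀ n, Nonempty (Ext P' X n ≃+ H n))
    (F : ℕ → ℕ → AddCommGrpCat.{u}) (eF : ∀ p q, Nonempty (Ext P ((T.rightDerived q).obj X) p ≃+ F p q)) :
    ∃ (E : E₂CohomologicalSpectralSequence AddCommGrpCat.{u})
      (a : SpSeq.Abutment E (fun n : ℤ => if 0 ≤ n then H n.toNat else Z)),
      (∀ n, a.IsFinite n) ∧ SpSeq.IsBounded E ∧
      ∀ p q : ℤ, Nonempty ((E.page 2 le_rfl).X (p, q) ≅
        (if 0 ≤ p ∧ 0 ≤ q then F p.toNat q.toNat else Z)) := by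
  letI := HasDerivedCategory.standard B
  letI := HasDerivedCategory.standard AddCommGrpCat.{u}
  obtain ⟨E, a, ha, hb, hE, hz⟩ := SpObj.grothendieck_spectralSequence' T (preadditiveCoyoneda.obj (op P))
    (fun I hI q hq => by
      obtain ⟨k, rfl⟩ := Nat.exists_eq_succ_of_ne_zero (by omega : q ≠ 0)
      haveI := hT I hI k
      exact (AddCommGrpCat.isZero_of_subsingleton _).of_iso (ExtDerived.rightDerivedCoyonedaIso P (k + 1) (T.obj I)))
    X (fun n : ℤ => if 0 ≤ n then H n.toNat else Z)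
    (fun n => ⟨(ExtDerived.nonempty_rightDerived_iso_of_iso n e X).some ≪≫
      ExtDerived.rightDerivedCoyonedaIso P' n X ≪≫ (eH n).some.toAddCommGrpIso ≪≫ eqToIso (by simp)⟩)
    (fun n hn => by simp only [if_neg (not_le.2 hn)]; exact hZ)
  refine ⟨E, a, ha, hb, fun p q => ?_⟩
  by_cases hpq : 0 ≤ p ∧ 0 ≤ q
  · obtain ⟨m, rfl⟩ := Int.eq_ofNat_of_zero_le hpq.1
    obtain ⟨k, rfl⟩ := Int.eq_ofNat_of_zero_le hpq.2
    exact ⟨(hE m k).some ≪≫ ExtDerived.rightDerivedCoyonedaIso P m _ ≪≫ (eF m k).some.toAddCommGrpIso ≪≫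
      eqToIso (by simp [hpq])⟩
  · exact ⟨(hz p q hpq).iso (by rw [if_neg hpq]; exact hZ)⟩

/-- The spectral sequence with trivial groups written as `PUnit`. -/
theorem ext_spectralSequence (T : A ⥤ B) [T.Additive] (P : B) (P' : A)
    (e : T ⋙ preadditiveCoyoneda.obj (op P) ≅ preadditiveCoyoneda.obj (op P'))
    (hT : ∀ I : A, Injective I → ∀ k, Subsingleton (Ext P (T.obj I) (k + 1))) (X : A)
    (H : ℕ → AddCommGrpCat.{u}) (eH : ∀ n, Nonempty (Ext P' X n ≃+ H n))
    (F : ℕ → ℕ → AddCommGrpCat.{u}) (eF : ∀ p q, Nonempty (Ext P ((T.rightDerived q).obj X) p ≃+ F p q)) :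
    ∃ (E : E₂CohomologicalSpectralSequence AddCommGrpCat.{u})
      (a : SpSeq.Abutment E (fun n : ℤ => if 0 ≤ n then H n.toNat else AddCommGrpCat.of PUnit.{u + 1})),
      (∀ n, a.IsFinite n) ∧ SpSeq.IsBounded E ∧
      ∀ p q : ℤ, Nonempty ((E.page 2 le_rfl).X (p, q) ≅
        (if 0 ≤ p ∧ 0 ≤ q then F p.toNat q.toNat else AddCommGrpCat.of PUnit.{u + 1})) :=
  ext_spectralSequence_of_zero T P P' e hT X _ (AddCommGrpCat.isZero_of_subsingleton _) H eH F eF

variable {C : Type u} [SmallCategory C] {J : GrothendieckTopology C} (O : Sheaf J CommRingCat.{u}) (U : C)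
  [ModSite.HasPushOver O U]

/-- `Hom(O/O_U, ℋom(M, -)) ≅ Hom(M/M_U, -)`. -/
def quotUnitHomIso (M : ModSite.Mod O) [ModSite.HasSheafHom M] :
    ModSite.sheafHom M ⋙ preadditiveCoyoneda.obj (op ((ModSite.quotOn O U).obj (ModSite.unit O))) ≅
      preadditiveCoyoneda.obj (op ((ModSite.quotOn O U).obj M)) :=
  Functor.isoWhiskerLeft _ (coyonedaSectIso O U (ModSite.unit O)).symm ≪≫ gammaZHomIso O U M

end Groth.Agent.ExtSupp8

namespace Groth.Agent.ExtSupp8

open Groth.Agent.SiteCoh

variable {C : Type u} [SmallCategory C] {J : GrothendieckTopology C}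

theorem secEquiv_add (U : C) {F : Sheaf J AddCommGrpCat.{u}} (x y : fr J U ⟶ F) :
    secEquiv U F (x + y) = secEquiv U F x + secEquiv U F y := by
  have e : ∀ z : fr J U ⟶ F, secEquiv U F z = z.hom.app (op U) (secEquiv U _ (𝟙 _)) := fun z => by
    rw [← secEquiv_comp, Category.id_comp]
  rw [e (x + y), e x, e y]
  rfl

/-- Sections as maps out of the free sheaf. -/
def secAddEquiv (U : C) (F : Sheaf J AddCommGrpCat.{u}) : (fr J U ⟶ F) ≃+ F.obj.obj (op U) :=
  { secEquiv U F with map_add' := secEquiv_add U }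

variable {D : Type u} [SmallCategory D] {K : GrothendieckTopology D} (u : D ⥤ C) [u.IsContinuous K J]

/-- Sections of a direct image. -/
def coyonedaPushIso (V : D) :
    CohSite.push J K u ⋙ preadditiveCoyoneda.obj (op (fr K V)) ≅ preadditiveCoyoneda.obj (op (fr J (u.obj V))) :=
  NatIso.ofComponents
    (fun F => ((secAddEquiv V ((CohSite.push J K u).obj F)).trans (secAddEquiv (u.obj V) F).symm).toAddCommGrpIso)
    fun {F G} g => by
      ext f
      apply (secEquiv (u.obj V) G).injective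
      change secEquiv _ G ((secEquiv _ G).symm _) = secEquiv _ G ((secEquiv _ F).symm _ ≫ g)
      rw [Equiv.apply_symm_apply, secEquiv_comp, Equiv.apply_symm_apply]
      exact secEquiv_comp V f _

end Groth.Agent.ExtSupp8
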